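import Mathlib
import Cfsg.Agent.Lib.KleinGen

/-!
An elementary abelian 2-group `V` of order `2 ^ m` acting faithfully on a group `Q` of odd order:
`3 ^ m |C_Q(V)| ≤ |Q|`.
-/

set_option autoImplicit false

namespace Cfsg.Agent.H320.Kill.Elem

open Subgroup

variable {X : Type*} [Group X] [Finite X]

theorem comm_of_sq {V : Subgroup X} (hV : ∀ v ∈ V, v * v = 1) : ∀ a ∈ V, ∀ b ∈ V, a * b = b * a := by
  intro a ha b hb
  have h1 : a⁻¹ = a := inv_eq_of_mul_eq_one_right (hV a ha)
  have h2 : b⁻¹ = b := inv_eq_of_mul_eq_one_right (hV b hb)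
  have h3 : (a * b)⁻¹ = a * b := inv_eq_of_mul_eq_one_right (hV _ (V.mul_mem ha hb))
  rw [mul_inv_rev, h1, h2] at h3
  exact h3.symm

theorem two_mul_card_le {U W : Subgroup X} (hU : U ≤ W) (hne : U ≠ W) : 2 * Nat.card U ≤ Nat.card W := by
  obtain ⟨k, hk⟩ := Subgroup.card_dvd_of_le hU
  rcases Nat.lt_or_ge k 2 with h | h
  · exfalso
    interval_cases k
    · rw [mul_zero] at hk
      exact Nat.card_pos.ne' hk
    · rw [mul_one] at hk
      exact hne (Subgroup.eq_of_le_of_card_ge hU hk.le)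
  · rw [hk, mul_comm]
    exact Nat.mul_le_mul_left _ h

theorem klein_step {Q H U V : Subgroup X} (hQ : Odd (Nat.card Q)) (hUV : U ≤ V) (hV : ∀ v ∈ V, v * v = 1)
    (hVQ : ∀ v ∈ V, ∀ q ∈ Q, v * q * v⁻¹ ∈ Q) (h2 : ¬ Nat.card V ≤ 2 * Nat.card U)
    (ih : ∀ W ≤ V, 2 * Nat.card U ≤ Nat.card W → Q ⊓ centralizer (W : Set X) ≤ H) :
    Q ⊓ centralizer (U : Set X) ≤ H := by
  have hc := comm_of_sq hV
  obtain ⟨a, haV, haU⟩ : ∃ a ∈ V, a ∉ U := by
    by_contra hcon
    push Not at hcon
    have h3 : V ≤ U := hcon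
    have := Nat.card_mono (Set.toFinite (U : Set X)) h3
    have h4 : Nat.card V ≤ Nat.card U := this
    omega
  have hUa : U ⊔ zpowers a ≤ V := sup_le hUV (by rw [zpowers_le]; exact haV)
  have card_sup : ∀ c ∈ V, c ∉ U → 2 * Nat.card U ≤ Nat.card (U ⊔ zpowers c : Subgroup X) := by
    intro c _ hcU
    refine two_mul_card_le le_sup_left ?_
    intro h
    apply hcU
    rw [h]
    exact (le_sup_right : zpowers c ≤ _) (mem_zpowers c)
  obtain ⟨b, hbV, hbU⟩ : ∃ b ∈ V, b ∉ U ⊔ zpowers a := by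
    by_contra hcon
    push Not at hcon
    have h3 : U ⊔ zpowers a = V := le_antisymm hUa hcon
    -- card of the join is at most twice
    apply h2
    rw [← h3]
    have h4 : (U ⊔ zpowers a : Subgroup X) ≤ U ⊔ zpowers a := le_rfl
    let f : U × Fin 2 → (U ⊔ zpowers a : Subgroup X) := fun p =>
      ⟨p.1 * a ^ (p.2 : ℕ), mul_mem ((le_sup_left : U ≤ _) p.1.2)
        (pow_mem ((le_sup_right : zpowers a ≤ _) (mem_zpowers a)) _)⟩
    have hf : Function.Surjective f := by
      rintro ⟨w, hw⟩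
      let K : Subgroup X :=
        { carrier := {w | ∃ u ∈ U, w = u ∨ w = u * a}
          one_mem' := ⟨1, U.one_mem, Or.inl rfl⟩
          mul_mem' := by
            rintro w w' ⟨u, hu, h | h⟩ ⟨u', hu', h' | h'⟩
            · exact ⟨u * u', U.mul_mem hu hu', Or.inl (by rw [h, h'])⟩
            · exact ⟨u * u', U.mul_mem hu hu', Or.inr (by rw [h, h', mul_assoc])⟩
            · refine ⟨u * u', U.mul_mem hu hu', Or.inr ?_⟩
              rw [h, h', mul_assoc, mul_assoc, hc a haV u' (hUV hu')]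
            · refine ⟨u * u', U.mul_mem hu hu', Or.inl ?_⟩
              rw [h, h']
              calc u * a * (u' * a) = u * (a * u') * a := by group
                _ = u * (u' * a) * a := by rw [hc a haV u' (hUV hu')]
                _ = u * u' * (a * a) := by group
                _ = u * u' := by rw [hV a haV, mul_one]
          inv_mem' := by
            rintro w ⟨u, hu, h | h⟩
            · exact ⟨u⁻¹, U.inv_mem hu, Or.inl (by rw [h])⟩
            · refine ⟨u⁻¹, U.inv_mem hu, Or.inr ?_⟩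
              have h5 : a⁻¹ = a := inv_eq_of_mul_eq_one_right (hV a haV)
              rw [h, mul_inv_rev, h5]
              exact hc a haV _ (hUV (U.inv_mem hu)) }
      have hK : U ⊔ zpowers a ≤ K := by
        refine sup_le (fun u hu => ⟨u, hu, Or.inl rfl⟩) ?_
        rw [zpowers_le]
        exact ⟨1, U.one_mem, Or.inr (one_mul a).symm⟩
      obtain ⟨u, hu, h | h⟩ := hK hw
      · exact ⟨(⟨u, hu⟩, 0), Subtype.ext (by show u * a ^ 0 = w; rw [pow_zero, mul_one, h])⟩
      · exact ⟨(⟨u, hu⟩, 1), Subtype.ext (by show u * a ^ 1 = w; rw [pow_one, h])⟩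
    have h5 := Nat.card_le_card_of_surjective f hf
    rw [Nat.card_prod, Nat.card_eq_fintype_card (α := Fin 2), Fintype.card_fin] at h5
    omega
  have hbU' : b ∉ U := fun h => hbU ((le_sup_left : U ≤ _) h)
  have habV : a * b ∈ V := V.mul_mem haV hbV
  have habU : a * b ∉ U := by
    intro h
    apply hbU
    have h3 : b = a⁻¹ * (a * b) := by group
    rw [h3]
    exact mul_mem (inv_mem ((le_sup_right : zpowers a ≤ _) (mem_zpowers a))) ((le_sup_left : U ≤ _) h)
  set W := Q ⊓ centralizer (U : Set X) with hW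
  have hWodd : Odd (Nat.card W) := by
    have h3 : Nat.card W ∣ Nat.card Q := Subgroup.card_dvd_of_le inf_le_left
    exact Odd.of_dvd_nat hQ h3
  have hnorm : ∀ c ∈ V, ∀ w ∈ W, c * w * c⁻¹ ∈ W := by
    rintro c hcV w ⟨hwQ, hwU⟩
    refine ⟨hVQ c hcV w hwQ, ?_⟩
    have hwU' : w ∈ centralizer (U : Set X) := hwU
    show c * w * c⁻¹ ∈ centralizer (U : Set X)
    rw [mem_centralizer_iff] at hwU' ⊢
    intro u hu
    have h3 := hwU' u hu
    have h4 : u * c = c * u := hc u (hUV hu) c hcV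
    have h5 : c⁻¹ * u = u * c⁻¹ := by
      rw [inv_mul_eq_iff_eq_mul, ← mul_assoc, ← h4, mul_assoc, mul_inv_cancel, mul_one]
    calc u * (c * w * c⁻¹) = u * c * w * c⁻¹ := by group
      _ = c * (u * w) * c⁻¹ := by rw [h4]; group
      _ = c * w * (u * c⁻¹) := by rw [h3]; group
      _ = c * w * c⁻¹ * u := by rw [← h5]; group
  have hle : ∀ c ∈ V, c ∉ U → W ⊓ centralizer ({c} : Set X) ≤ H := by
    intro c hcV hcU
    refine le_trans ?_ (ih (U ⊔ zpowers c) (sup_le hUV (by rw [zpowers_le]; exact hcV)) (card_sup c hcV hcU))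
    rintro w ⟨⟨hwQ, hwU⟩, hwc⟩
    refine ⟨hwQ, ?_⟩
    have h3 : U ⊔ zpowers c ≤ centralizer ({w} : Set X) := by
      refine sup_le ?_ ?_
      · intro u hu
        rw [mem_centralizer_singleton_iff]
        exact (mem_centralizer_iff.mp hwU u hu)
      · rw [zpowers_le, mem_centralizer_singleton_iff]
        exact (mem_centralizer_singleton_iff.mp hwc).symm
    show w ∈ centralizer ((U ⊔ zpowers c : Subgroup X) : Set X)
    rw [mem_centralizer_iff]
    intro y hy
    exact mem_centralizer_singleton_iff.mp (h3 hy)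
  exact Lib.KleinGen.le_of_klein W H hWodd a b (hV a haV) (hV b hbV) (hc a haV b hbV)
    (hnorm a haV) (hnorm b hbV) (hle a haV haU) (hle b hbV hbU') (hle (a * b) habV habU)

/-- `Q` is generated by the fixed points of the hyperplanes of `V`. -/
theorem le_of_hyperplanes {Q H V : Subgroup X} (hQ : Odd (Nat.card Q)) (hV : ∀ v ∈ V, v * v = 1)
    (hVQ : ∀ v ∈ V, ∀ q ∈ Q, v * q * v⁻¹ ∈ Q)
    (h : ∀ U ≤ V, Nat.card V ≤ 2 * Nat.card U → Q ⊓ centralizer (U : Set X) ≤ H) : Q ≤ H := by
  have key : ∀ n : ℕ, ∀ U ≤ V, Nat.card V ≤ 2 ^ n * Nat.card U → Q ⊓ centralizer (U : Set X) ≤ H := by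
    intro n
    induction n with
    | zero => intro U hU h1; exact h U hU (by rw [pow_zero, one_mul] at h1; omega)
    | succ n ih =>
      intro U hU h1
      by_cases h2 : Nat.card V ≤ 2 * Nat.card U
      · exact h U hU h2
      · refine klein_step hQ hU hV hVQ h2 fun W hW h3 => ih W hW ?_
        calc Nat.card V ≤ 2 ^ (n + 1) * Nat.card U := h1
          _ = 2 ^ n * (2 * Nat.card U) := by rw [pow_succ, mul_assoc]
          _ ≤ 2 ^ n * Nat.card W := Nat.mul_le_mul_left _ h3
  have h1 := key (Nat.card V) ⊥ bot_le (by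
    rw [Subgroup.card_bot, mul_one]
    exact (Nat.lt_two_pow_self).le)
  intro q hq
  refine h1 ⟨hq, ?_⟩
  show q ∈ centralizer ((⊥ : Subgroup X) : Set X)
  rw [mem_centralizer_iff]
  intro y hy
  rw [SetLike.mem_coe, mem_bot] at hy
  rw [hy, one_mul, mul_one]

/-- **A faithful elementary abelian 2-group.** -/
theorem pow_le_card {Q : Subgroup X} (hQ : Odd (Nat.card Q)) : ∀ (m : ℕ) (V : Subgroup X),
    (∀ v ∈ V, v * v = 1) → Nat.card V = 2 ^ m → (∀ v ∈ V, ∀ q ∈ Q, v * q * v⁻¹ ∈ Q) →
    V ⊓ centralizer (Q : Set X) = ⊥ →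
    3 ^ m * Nat.card (Q ⊓ centralizer (V : Set X) : Subgroup X) ≤ Nat.card Q := by
  intro m
  induction m with
  | zero =>
    intro V _ _ _ _
    rw [pow_zero, one_mul]
    exact Nat.le_of_dvd Nat.card_pos (Subgroup.card_dvd_of_le inf_le_left)
  | succ m ih =>
    intro V hV hcard hVQ hfaith
    obtain ⟨U, hUV, hU2, hU⟩ : ∃ U ≤ V, Nat.card V ≤ 2 * Nat.card U ∧
        ¬ Q ⊓ centralizer (U : Set X) ≤ centralizer (V : Set X) := by
      by_contra hcon
      push Not at hcon
      have h1 := le_of_hyperplanes hQ hV hVQ hcon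
      have h2 : V ≤ V ⊓ centralizer (Q : Set X) := by
        intro v hv
        refine ⟨hv, ?_⟩
        show v ∈ centralizer (Q : Set X)
        rw [mem_centralizer_iff]
        intro q hq
        exact (mem_centralizer_iff.mp (h1 hq) v hv).symm
      rw [hfaith, le_bot_iff] at h2
      rw [h2, Subgroup.card_bot] at hcard
      have h3 := Nat.one_lt_two_pow (n := m + 1) (by omega)
      omega
    have hne : U ≠ V := by
      rintro rfl
      exact hU inf_le_right
    have h2 := two_mul_card_le hUV hne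
    have hUc : Nat.card U = 2 ^ m := by
      rw [hcard, pow_succ] at h2 hU2
      omega
    have h3 := ih U (fun v hv => hV v (hUV hv)) hUc (fun v hv => hVQ v (hUV hv)) (by
      rw [← le_bot_iff, ← hfaith]
      exact inf_le_inf_right _ hUV)
    have h4 : Q ⊓ centralizer (V : Set X) ≤ Q ⊓ centralizer (U : Set X) :=
      inf_le_inf_left _ (centralizer_le hUV)
    have h5 : 3 * Nat.card (Q ⊓ centralizer (V : Set X) : Subgroup X) ≤
        Nat.card (Q ⊓ centralizer (U : Set X) : Subgroup X) := by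
      obtain ⟨k, hk⟩ := Subgroup.card_dvd_of_le h4
      have hodd : Odd (Nat.card (Q ⊓ centralizer (U : Set X) : Subgroup X)) :=
        Odd.of_dvd_nat hQ (Subgroup.card_dvd_of_le inf_le_left)
      rw [hk] at hodd ⊢
      have hk1 : Odd k := (Nat.odd_mul.mp hodd).2
      have hk2 : k ≠ 1 := by
        rintro rfl
        rw [mul_one] at hk
        have h6 : Q ⊓ centralizer (V : Set X) = Q ⊓ centralizer (U : Set X) :=
          Subgroup.eq_of_le_of_card_ge h4 hk.le
        apply hU
        rw [← h6]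
        exact inf_le_right
      have hk3 : 3 ≤ k := by
        obtain ⟨j, hj⟩ := hk1
        omega
      rw [mul_comm]
      exact Nat.mul_le_mul_left _ hk3
    calc 3 ^ (m + 1) * Nat.card (Q ⊓ centralizer (V : Set X) : Subgroup X)
        = 3 ^ m * (3 * Nat.card (Q ⊓ centralizer (V : Set X) : Subgroup X)) := by rw [pow_succ, mul_assoc]
      _ ≤ 3 ^ m * Nat.card (Q ⊓ centralizer (U : Set X) : Subgroup X) := Nat.mul_le_mul_left _ h5
      _ ≤ Nat.card Q := h3

end Cfsg.Agent.H320.Kill.Elem
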