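import Mathlib
import Cfsg.Prelude.Def_EvenType
import Cfsg.Prelude.Def_CaseTheorems
import Cfsg.Prelude.Def_SevenCases
import Cfsg.Agent.H320.PCon
import Cfsg.Agent.H320.Kill.Elem
import Cfsg.Agent.OddTab.Base
import Cfsg.Agent.OddHalf.Small.Transport
import Cfsg.Agent.EvenType.CharTwoCent
import Cfsg.Agent.SignalizersComponents.PConstrained

/-!
Groups of characteristic 2 type and of 2-rank and 3-rank at least 3 in which the centralizers of the
elements of order 3 are 3-constrained: means to show that a given group is not of this kind.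
-/

set_option autoImplicit false

namespace Cfsg.Agent.H320.Kill

open Subgroup Cfsg Cfsg.Agent.OddTab

universe u v

/-- characteristic 2 type, 2-rank and 3-rank at least 3, 3-constrained centralizers of elements of order 3 -/
structure Good (G : Type u) [Group G] : Prop where
  fin : Finite G
  char2 : IsCharacteristicTwoType G
  two : PRankAtLeast 2 3 G
  three : PRankAtLeast 3 3 G
  con : ∀ x : G, orderOf x = 3 → IsPConstrained 3 ↥(centralizer ({x} : Set G))

theorem Good.congr {G : Type u} {H : Type v} [Group G] [Group H] (e : G ≃* H) (h : Good G) : Good H := by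
  have := h.fin
  have hf : Finite H := Finite.of_equiv G e.toEquiv
  refine ⟨hf, OddHalf.Small.Transport.isCharacteristicTwoType e h.char2, CpQuot.Congr.prankAtLeast_of e h.two,
    CpQuot.Congr.prankAtLeast_of e h.three, fun x hx => ?_⟩
  have h3 : Fact (Nat.Prime 3) := ⟨Nat.prime_three⟩
  have h1 := h.con (e.symm x) (by rw [← hx]; exact orderOf_injective e.symm.toMonoidHom e.symm.injective x)
  have e1 : ↥(centralizer ({e.symm x} : Set G)) ≃* ↥(centralizer ({x} : Set H)) := by
    have h2 : (centralizer ({e.symm x} : Set G)).map e.toMonoidHom = centralizer ({x} : Set H) := by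
      ext y
      rw [mem_centralizer_singleton_iff]
      constructor
      · rintro ⟨g, hg, rfl⟩
        rw [SetLike.mem_coe, mem_centralizer_singleton_iff] at hg
        have := congrArg e hg
        simpa using this
      · intro hy
        refine ⟨e.symm y, ?_, by simp⟩
        rw [SetLike.mem_coe, mem_centralizer_singleton_iff]
        apply e.injective
        simpa using hy
    exact ((centralizer ({e.symm x} : Set G)).equivMapOfInjective e.toMonoidHom e.injective).trans
      (MulEquiv.subgroupCongr h2)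
  exact (PLocal.PConstrained.isPConstrained_congr e1).mp h1

theorem not_pConstrained_of_isComponent {H : Type*} [Group H] [Finite H]
    {K : Subgroup (H ⧸ pPrimeCore 3 H)} (hK : IsComponent K) : ¬ IsPConstrained 3 H := by
  have h3 : Fact (Nat.Prime 3) := ⟨Nat.prime_three⟩
  intro h
  rw [SignalizersComponents.PConstrained.isPConstrained_iff_pLayer_eq_bot,
    SignalizersComponents.PConstrained.pLayer_eq_bot_iff,
    SignalizersComponents.ComponentExists.layer_eq_bot_iff] at h
  exact h K hK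

/-- a component of order divisible by 3 in the centralizer of an element of order 3 -/
theorem not_good_of_comp {G : Type u} [Group G] {x : G} (hx : orderOf x = 3) {K : Subgroup G}
    (hK : IsComponentOf K (centralizer ({x} : Set G))) (h3 : 3 ∣ Nat.card K) : ¬ Good G := by
  intro h
  have := h.fin
  obtain ⟨L, hL, -⟩ := comp_image 3 hK (by
    intro h1
    exact (Nat.Prime.coprime_iff_not_dvd Nat.prime_three).mp h1.symm h3)
  exact not_pConstrained_of_isComponent hL (h.con x hx)

theorem not_good_of_lpExists {G : Type u} [Group G] {P : ∀ (K : Type u) [Group K], Prop}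
    (h1 : LpExists 3 G P) : ¬ Good G := by
  intro h
  have := h.fin
  obtain ⟨x, hx, L, hL, -⟩ := h1
  exact not_pConstrained_of_isComponent hL (h.con x hx)

theorem not_good_of_lpoExists {G : Type u} [Group G] {P : ∀ (K : Type u) [Group K], Prop}
    (h1 : LpoExists 3 G P) : ¬ Good G := by
  intro h
  have := h.fin
  obtain ⟨x, hx, -, L, hL, -⟩ := h1
  exact not_pConstrained_of_isComponent hL (h.con x hx)

/-- a component in the centralizer of an involution -/
theorem not_good_of_two {G : Type u} [Group G] {x : G} (hx : orderOf x = 2) {K : Subgroup G}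
    (hK : IsComponentOf K (centralizer ({x} : Set G))) : ¬ Good G := by
  intro h
  have := h.fin
  have hc := EvenType.CharTwoCent.char2_centralizer h.char2 hx
  have h2 : Fact (Nat.Prime 2) := ⟨Nat.prime_two⟩
  have hnil := Lib.Cores.pCore_isNilpotent (G := ↥(centralizer ({x} : Set G))) 2
  have hlay := SignalizersComponents.FStarPCore.layer_eq_bot_of_centralizer_le
    (Lib.Cores.pCore_normal 2) inferInstance hc
  rw [SignalizersComponents.ComponentExists.layer_eq_bot_iff] at hlay
  exact hlay _ hK.2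

theorem not_comm_of_card {L : Type*} [Group L] (hs : IsSimpleGroup L) (h : ¬ (Nat.card L).Prime) :
    ¬ IsMulCommutative L := by
  intro hc
  let _ : CommGroup L := { (inferInstance : Group L) with mul_comm := hc.is_comm.comm }
  exact h IsSimpleGroup.prime_card

/-! ### Ranks -/

theorem not_good_of_rank {G : Type u} [Group G] (h : PRankLE 3 2 G) : ¬ Good G := by
  rintro ⟨-, -, -, ⟨A, hA, hA3, hc⟩, -⟩
  have := h A hA hA3
  norm_num at hc this
  omega

theorem Good.exists_card {G : Type u} [Group G] (h : Good G) : ∃ A : Subgroup G, IsMulCommutative A ∧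
    (∀ a ∈ A, a ^ 3 = 1) ∧ ∃ k, Nat.card A = 3 ^ (k + 3) := by
  have := h.fin
  have h3 : Fact (Nat.Prime 3) := ⟨Nat.prime_three⟩
  obtain ⟨A, hA, hA3, hc⟩ := h.three
  have hp : IsPGroup 3 A := fun a => ⟨1, Subtype.ext (by simpa using hA3 a a.2)⟩
  obtain ⟨n, hn⟩ := IsPGroup.iff_card.mp hp
  refine ⟨A, hA, hA3, n - 3, ?_⟩
  rw [hn] at hc
  have h1 : 3 ≤ n := (Nat.pow_le_pow_iff_right (by norm_num)).mp hc
  rw [hn, Nat.sub_add_cancel h1]

theorem Good.card_dvd {G : Type u} [Group G] (h : Good G) : 27 ∣ Nat.card G := by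
  obtain ⟨A, -, -, k, hk⟩ := h.exists_card
  refine Dvd.dvd.trans ?_ (Subgroup.card_subgroup_dvd_card A)
  rw [hk]
  exact ⟨3 ^ k, by rw [pow_add]; ring⟩

theorem not_good_of_card {G : Type u} [Group G] (hc : ¬ 27 ∣ Nat.card G) : ¬ Good G :=
  fun h => hc h.card_dvd

/-- a Sylow 3-subgroup of order 27 is abelian of exponent 3 -/
theorem Good.comm_of_card {G : Type u} [Group G] (h : Good G) (hc : ¬ 81 ∣ Nat.card G) (B : Subgroup G)
    (hB : Nat.card B = 27) : IsMulCommutative B := by
  have := h.fin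
  have h3 : Fact (Nat.Prime 3) := ⟨Nat.prime_three⟩
  obtain ⟨A, hA, hA3, k, hk⟩ := h.exists_card
  have hk0 : k = 0 := by
    by_contra hk0
    apply hc
    refine Dvd.dvd.trans ?_ (Subgroup.card_subgroup_dvd_card A)
    rw [hk, show (81 : ℕ) = 3 ^ 4 by norm_num]
    exact pow_dvd_pow 3 (by omega)
  rw [hk0, zero_add] at hk
  have hfac : 3 ^ (Nat.card G).factorization 3 = 27 := by
    have h1 : 3 ≤ (Nat.card G).factorization 3 :=
      (Nat.prime_three.pow_dvd_iff_le_factorization Nat.card_pos.ne').mp (by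
        have := h.card_dvd
        norm_num
        exact this)
    have h2 : ¬ 4 ≤ (Nat.card G).factorization 3 := fun h4 =>
      hc (by
        have := (Nat.prime_three.pow_dvd_iff_le_factorization (Nat.card_pos (α := G)).ne').mpr h4
        norm_num at this
        exact this)
    have h5 : (Nat.card G).factorization 3 = 3 := by omega
    rw [h5]; norm_num
  let SA : Sylow 3 G := Sylow.ofCard A (by rw [hk, hfac]; norm_num)
  let SB : Sylow 3 G := Sylow.ofCard B (by rw [hB, hfac])
  have e : ↥A ≃* ↥B := (Sylow.equiv SA SB)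
  refine ⟨⟨fun a b => ?_⟩⟩
  have := hA.is_comm.comm (e.symm a) (e.symm b)
  apply e.symm.injective
  rw [map_mul, map_mul]
  exact this

/-- if the Sylow 3-subgroups have order 27 then all 3-subgroups are abelian -/
theorem Good.comm_of_pGroup {G : Type u} [Group G] (h : Good G) (hc : ¬ 81 ∣ Nat.card G) {K : Subgroup G}
    (hK : IsPGroup 3 K) : ∀ a ∈ K, ∀ b ∈ K, a * b = b * a := by
  have := h.fin
  have h3 : Fact (Nat.Prime 3) := ⟨Nat.prime_three⟩
  obtain ⟨P, hP⟩ := hK.exists_le_sylow
  have hfac : 3 ^ (Nat.card G).factorization 3 = 27 := by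
    have h1 : 3 ≤ (Nat.card G).factorization 3 :=
      (Nat.prime_three.pow_dvd_iff_le_factorization Nat.card_pos.ne').mp (by
        have := h.card_dvd
        norm_num
        exact this)
    have h2 : ¬ 4 ≤ (Nat.card G).factorization 3 := fun h4 =>
      hc (by
        have := (Nat.prime_three.pow_dvd_iff_le_factorization (Nat.card_pos (α := G)).ne').mpr h4
        norm_num at this
        exact this)
    have h5 : (Nat.card G).factorization 3 = 3 := by omega
    rw [h5]; norm_num
  have h1 := h.comm_of_card hc (P : Subgroup G) (by rw [P.card_eq_multiplicity, hfac])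
  intro a ha b hb
  exact congrArg Subtype.val (h1.is_comm.comm ⟨a, hP ha⟩ ⟨b, hP hb⟩)

theorem isPGroup_heis {G : Type*} [Group G] [Finite G] {p : ℕ} [Fact p.Prime] {a b z : G} (ha : a ^ p = 1)
    (hb : b ^ p = 1) (hz : z ^ p = 1) (hab : a * b = z * b * a) (haz : a * z = z * a) (hbz : b * z = z * b) :
    IsPGroup p (zpowers a ⊔ (zpowers b ⊔ zpowers z) : Subgroup G) := by
  have key : ∀ x : G, x ^ p = 1 → IsPGroup p (zpowers x) := by
    intro x hx
    have h1 : Nat.card (zpowers x) ∣ p ^ 1 := by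
      rw [pow_one, Nat.card_zpowers]
      exact orderOf_dvd_of_pow_eq_one hx
    exact IsPGroup.of_card_dvd_pow h1
  have hbz' : zpowers b ≤ normalizer ((zpowers z : Subgroup G) : Set G) := by
    rw [zpowers_le]
    refine mem_normalizer_fintype fun n hn => ?_
    obtain ⟨k, rfl⟩ := mem_zpowers_iff.mp hn
    have h1 : Commute b (z ^ k) := (show Commute b z from hbz).zpow_right k
    rw [h1.eq, mul_assoc, mul_inv_cancel, mul_one]
    exact hn
  have hB : IsPGroup p (zpowers b ⊔ zpowers z : Subgroup G) :=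
    (key b hb).to_sup_of_normal_right' (key z hz) hbz'
  refine (key a ha).to_sup_of_normal_right' hB ?_
  rw [zpowers_le]
  refine mem_normalizer_fintype fun n hn => ?_
  have h1 : (zpowers b ⊔ zpowers z : Subgroup G) ≤
      (zpowers b ⊔ zpowers z : Subgroup G).comap (MulAut.conj a).toMonoidHom := by
    refine sup_le ?_ ?_
    · rw [zpowers_le, mem_comap]
      show a * b * a⁻¹ ∈ _
      rw [hab, mul_assoc, mul_inv_cancel, mul_one]
      exact mul_mem ((le_sup_right : zpowers z ≤ _) (mem_zpowers z)) ((le_sup_left : zpowers b ≤ _) (mem_zpowers b))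
    · rw [zpowers_le, mem_comap]
      show a * z * a⁻¹ ∈ _
      rw [haz, mul_assoc, mul_inv_cancel, mul_one]
      exact (le_sup_right : zpowers z ≤ _) (mem_zpowers z)
  exact h1 hn

/-- Sylow 3-subgroups of order 27 and a nonabelian subgroup of order 27 -/
theorem not_good_of_heis {G : Type u} [Group G] (hc : ¬ 81 ∣ Nat.card G) {a b z : G} (ha : a ^ 3 = 1)
    (hb : b ^ 3 = 1) (hz : z ^ 3 = 1) (hz1 : z ≠ 1) (hab : a * b = z * b * a) (haz : a * z = z * a)
    (hbz : b * z = z * b) : ¬ Good G := by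
  intro h
  have := h.fin
  have h3 : Fact (Nat.Prime 3) := ⟨Nat.prime_three⟩
  have h1 := h.comm_of_pGroup hc (isPGroup_heis ha hb hz hab haz hbz) a
    ((le_sup_left : zpowers a ≤ _) (mem_zpowers a)) b
    ((le_sup_right : _ ≤ zpowers a ⊔ (zpowers b ⊔ zpowers z)) ((le_sup_left : zpowers b ≤ _) (mem_zpowers b)))
  apply hz1
  rw [hab, mul_assoc] at h1
  exact mul_eq_right.mp h1

/-! ### The order of a 3-constrained group with a large simple subgroup -/

section order

variable {H : Type u} [Group H] [Finite H]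

theorem card_fixed_modEq {X : Type u} [Group X] [Finite X] {Q : Subgroup X} {g : X} {r : ℕ} (hr : r.Prime)
    (hg : orderOf g = r) (hQ : ∀ q ∈ Q, g * q * g⁻¹ ∈ Q) (hQ' : ∀ q ∈ Q, g⁻¹ * q * g ∈ Q) :
    Nat.card Q ≡ Nat.card (Q ⊓ centralizer ({g} : Set X) : Subgroup X) [MOD r] := by
  have hfr : Fact r.Prime := ⟨hr⟩
  -- the action of `⟨g⟩` on `Q`
  have hnorm : zpowers g ≤ normalizer (Q : Set X) := by
    rw [zpowers_le, mem_normalizer_iff]
    intro x
    refine ⟨fun hx => hQ x hx, fun hx => ?_⟩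
    have := hQ' _ hx
    have e : g⁻¹ * (g * x * g⁻¹) * g = x := by group
    rwa [e] at this
  let _ : MulAction ↥(zpowers g) ↥Q :=
    { smul := fun z q => ⟨(z : X) * q * (z : X)⁻¹, (mem_normalizer_iff.mp (hnorm z.2) q).mp q.2⟩
      one_smul := fun q => Subtype.ext (by show (1 : X) * q * (1 : X)⁻¹ = q; group)
      mul_smul := fun a b q => Subtype.ext (by
        show ((a : X) * b) * q * ((a : X) * b)⁻¹ = (a : X) * ((b : X) * q * (b : X)⁻¹) * (a : X)⁻¹
        group) }
  have hsm : ∀ (z : ↥(zpowers g)) (q : ↥Q), ((z • q : ↥Q) : X) = (z : X) * q * (z : X)⁻¹ := fun _ _ => rfl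
  have hp : IsPGroup r ↥(zpowers g) := by
    rw [IsPGroup.iff_card]
    exact ⟨1, by rw [pow_one, Nat.card_zpowers, hg]⟩
  have h1 := hp.card_modEq_card_fixedPoints ↥Q
  have h2 : Nat.card (MulAction.fixedPoints ↥(zpowers g) ↥Q) =
      Nat.card (Q ⊓ centralizer ({g} : Set X) : Subgroup X) := by
    refine Nat.card_congr ⟨fun q => ⟨(q : ↥Q), ⟨(q : ↥Q).2, ?_⟩⟩, fun q => ⟨⟨q, q.2.1⟩, ?_⟩, ?_, ?_⟩
    · show ((q : ↥Q) : X) ∈ centralizer ({g} : Set X)
      rw [mem_centralizer_singleton_iff]
      have h3 := congrArg (Subtype.val) (q.2 ⟨g, mem_zpowers g⟩)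
      rw [hsm] at h3
      exact (mul_inv_eq_iff_eq_mul.mp h3).symm
    · intro z
      apply Subtype.ext
      rw [hsm]
      show (z : X) * (q : X) * (z : X)⁻¹ = q
      have h3 : (z : X) ∈ centralizer ({(q : X)} : Set X) := by
        have : zpowers g ≤ centralizer ({(q : X)} : Set X) := by
          rw [zpowers_le, mem_centralizer_singleton_iff]
          exact (mem_centralizer_singleton_iff.mp q.2.2).symm
        exact this z.2
      rw [mul_inv_eq_iff_eq_mul]
      exact (mem_centralizer_singleton_iff.mp h3)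
    · intro q; rfl
    · intro q; rfl
  rwa [h2] at h1

/-- **Order of a 3-constrained group**: a central element of order 3 and a simple subgroup `L` of order
divisible by 3. -/
theorem data (hH : IsPConstrained 3 H) {z : H} (hz : orderOf z = 3) (hzc : z ∈ center H)
    {L : Subgroup H} (hL : IsSimpleGroup ↥L) (hLn : ¬ IsMulCommutative ↥L) (hL3 : 3 ∣ Nat.card ↥L) :
    ∃ i : ℕ, 3 ^ i * Nat.card ↥L ∣ Nat.card H ∧
      (∀ (V : Subgroup H) (m : ℕ), V ≤ L → (∀ v ∈ V, v * v = 1) → Nat.card ↥V = 2 ^ m → m + 1 ≤ i) ∧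
      (∀ r : ℕ, r.Prime → r ≠ 3 → r ∣ Nat.card ↥L → ∃ k, 1 ≤ k ∧ k + 1 ≤ i ∧ r ∣ 3 ^ k - 1) := by
  have h3 : Fact (Nat.Prime 3) := ⟨Nat.prime_three⟩
  set N := pPrimeCore 3 H with hN
  have hNc : (Nat.card N).Coprime 3 := Lib.Cores.pPrimeCore_coprime 3
  set π := QuotientGroup.mk' N with hπ
  set X := H ⧸ N with hX
  set Q : Subgroup X := pCore 3 X with hQ
  have hC : centralizer (Q : Set X) ≤ Q :=
    (SignalizersComponents.PConstrained.isPConstrained_iff_quotient 3).mp hH
  have hQp : IsPGroup 3 Q := Lib.Cores.pCore_isPGroup 3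
  have hQn : Q.Normal := Lib.Cores.pCore_normal 3
  have hNn : N.Normal := Lib.Cores.pPrimeCore_normal 3
  -- `L ∩ N = 1`
  have hLN : L ⊓ N = ⊥ := by
    have h1 : (N.subgroupOf L).Normal := inferInstance
    rcases h1.eq_bot_or_eq_top with h2 | h2
    · rw [inf_comm]
      rw [Subgroup.subgroupOf_eq_bot] at h2
      exact h2.eq_bot
    · exfalso
      rw [Subgroup.subgroupOf_eq_top] at h2
      have h4 : 3 ∣ Nat.card N := hL3.trans (Subgroup.card_dvd_of_le h2)
      exact (Nat.Prime.coprime_iff_not_dvd Nat.prime_three).mp hNc.symm h4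
  have hinj : ∀ a ∈ L, π a = 1 → a = 1 := by
    intro a ha h1
    have h2 : a ∈ N := by rwa [hπ, QuotientGroup.mk'_apply, QuotientGroup.eq_one_iff] at h1
    have h4 : a ∈ L ⊓ N := ⟨ha, h2⟩
    rwa [hLN, mem_bot] at h4
  have hinj' : Function.Injective (π.subgroupMap L) := by
    rw [injective_iff_map_eq_one]
    intro a ha
    exact Subtype.ext (hinj a a.2 (congrArg Subtype.val ha))
  have e : ↥L ≃* ↥(L.map π) := MulEquiv.ofBijective (π.subgroupMap L) ⟨hinj', π.subgroupMap_surjective L⟩
  set L' := L.map π with hL'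
  have hLs : IsSimpleGroup ↥L' := by
    exact e.isSimpleGroup_congr.mp hL
  have hLQ : L' ⊓ Q = ⊥ := by
    have h1 : (Q.subgroupOf L').Normal := inferInstance
    rcases h1.eq_bot_or_eq_top with h2 | h2
    · rw [inf_comm]
      rw [Subgroup.subgroupOf_eq_bot] at h2
      exact h2.eq_bot
    · exfalso
      rw [Subgroup.subgroupOf_eq_top] at h2
      have h4 : IsPGroup 3 L' := hQp.to_le h2
      have h5 : IsPGroup 3 L := h4.of_equiv e.symm
      have h6 : Group.IsNilpotent L := h5.isNilpotent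
      have h7 := IsSimpleGroup.comm_iff_isSolvable (G := ↥L)
      apply hLn
      exact ⟨⟨h7.mpr inferInstance⟩⟩
  -- `z`
  set z' := π z with hz'
  have hz'1 : z' ≠ 1 := by
    intro h1
    have h2 : z ∈ N := by rwa [hz', hπ, QuotientGroup.mk'_apply, QuotientGroup.eq_one_iff] at h1
    have h4 : 3 ∣ Nat.card N := by
      rw [← hz, ← Nat.card_zpowers]
      exact Subgroup.card_dvd_of_le (by rw [zpowers_le]; exact h2)
    exact (Nat.Prime.coprime_iff_not_dvd Nat.prime_three).mp hNc.symm h4
  have hz'3 : orderOf z' = 3 := by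
    refine orderOf_eq_prime ?_ hz'1
    have h1 : z ^ 3 = 1 := by rw [← hz]; exact pow_orderOf_eq_one z
    rw [hz', ← map_pow, h1, map_one]
  have hz'c : ∀ x : X, x * z' = z' * x := by
    intro x
    obtain ⟨h, rfl⟩ := QuotientGroup.mk'_surjective N x
    rw [hz', ← hπ, ← map_mul, ← map_mul, (mem_center_iff.mp hzc h)]
  have hz'Q : z' ∈ Q := by
    have h1 : zpowers z' ≤ Q := by
      apply Lib.Cores.le_pCore
      · constructor
        intro n hn g
        have : g * n * g⁻¹ = n := by
          obtain ⟨k, rfl⟩ := mem_zpowers_iff.mp hn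
          have h4 : Commute g z' := hz'c g
          have h5 : Commute g (z' ^ k) := h4.zpow_right k
          rw [h5.eq]; group
        rw [this]; exact hn
      · rw [IsPGroup.iff_card]
        exact ⟨1, by rw [pow_one, Nat.card_zpowers, hz'3]⟩
    exact h1 (mem_zpowers z')
  obtain ⟨i, hi⟩ := IsPGroup.iff_card.mp hQp
  have hQodd : Odd (Nat.card Q) := by
    rw [hi]; exact Odd.pow (by decide)
  have hfix : ∀ S : Set X, ∃ b, 1 ≤ b ∧ Nat.card (Q ⊓ centralizer S : Subgroup X) = 3 ^ b := by
    intro S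
    have h1 : IsPGroup 3 (Q ⊓ centralizer S : Subgroup X) := hQp.to_le inf_le_left
    obtain ⟨b, hb⟩ := IsPGroup.iff_card.mp h1
    refine ⟨b, ?_, hb⟩
    by_contra h2
    have hb0 : b = 0 := by omega
    rw [hb0, pow_zero, Subgroup.card_eq_one] at hb
    apply hz'1
    have h4 : z' ∈ (Q ⊓ centralizer S : Subgroup X) :=
      ⟨hz'Q, mem_centralizer_iff.mpr fun y _ => hz'c y⟩
    rwa [hb, mem_bot] at h4
  refine ⟨i, ?_, ?_, ?_⟩
  · -- the order
    have h1 : Nat.card L' ∣ Nat.card (X ⧸ Q) := by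
      have h2 : Nat.card (L'.map (QuotientGroup.mk' Q)) = Nat.card L' := by
        refine (Nat.card_congr (Equiv.ofBijective ((QuotientGroup.mk' Q).subgroupMap L')
          ⟨?_, (QuotientGroup.mk' Q).subgroupMap_surjective L'⟩)).symm
        rw [injective_iff_map_eq_one]
        intro a ha
        have h3 : (a : X) ∈ L' ⊓ Q := by
          refine ⟨a.2, ?_⟩
          have := congrArg Subtype.val ha
          exact (QuotientGroup.eq_one_iff _).mp this
        rw [hLQ, mem_bot] at h3
        exact Subtype.ext h3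
      rw [← h2]
      exact Subgroup.card_subgroup_dvd_card _
    have h2 : Nat.card Q * Nat.card L' ∣ Nat.card X := by
      rw [Subgroup.card_eq_card_quotient_mul_card_subgroup Q, mul_comm (Nat.card (X ⧸ Q))]
      exact Nat.mul_dvd_mul_left _ h1
    rw [hi, ← Nat.card_congr e.toEquiv] at h2
    exact h2.trans (Subgroup.card_quotient_dvd_card N)
  · intro V m hV hV2 hVc
    have hVL' : V.map π ≤ L' := Subgroup.map_mono hV
    have hVc' : Nat.card (V.map π) = 2 ^ m := by
      rw [← hVc]
      refine (Nat.card_congr (Equiv.ofBijective (π.subgroupMap V) ⟨?_, π.subgroupMap_surjective V⟩)).symm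
      rw [injective_iff_map_eq_one]
      intro a ha
      exact Subtype.ext (hinj a (hV a.2) (congrArg Subtype.val ha))
    have h1 := Elem.pow_le_card hQodd m (V.map π) (by
      rintro _ ⟨v, hv, rfl⟩
      rw [← map_mul, hV2 v hv, map_one]) hVc' (fun v _ q hq => hQn.conj_mem q hq v) (by
      rw [← le_bot_iff, ← hLQ]
      exact inf_le_inf hVL' hC)
    obtain ⟨b, hb1, hb⟩ := hfix (V.map π : Set X)
    rw [hb, hi, ← pow_add, Nat.pow_le_pow_iff_right (by norm_num)] at h1
    omega
  · intro r hr hr3 hrL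
    have hrf : Fact r.Prime := ⟨hr⟩
    obtain ⟨g, hg⟩ := exists_prime_orderOf_dvd_card' (G := ↥L') r (by
      rwa [← Nat.card_congr e.toEquiv])
    have hg' : orderOf (g : X) = r := by rw [orderOf_coe, hg]
    have h1 := card_fixed_modEq (Q := Q) hr hg' (fun q hq => hQn.conj_mem q hq g) (fun q hq => by
      have := hQn.conj_mem q hq (g : X)⁻¹
      rwa [inv_inv] at this)
    obtain ⟨b, hb1, hb⟩ := hfix ({(g : X)} : Set X)
    have hbi : b < i := by
      rw [← Nat.pow_lt_pow_iff_right (a := 3) (by norm_num), ← hi, ← hb]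
      refine lt_of_le_of_ne (Nat.le_of_dvd Nat.card_pos (Subgroup.card_dvd_of_le inf_le_left)) ?_
      intro h2
      have h4 : Q ⊓ centralizer ({(g : X)} : Set X) = Q := Subgroup.eq_of_le_of_card_ge inf_le_left h2.ge
      have h5 : (g : X) ∈ centralizer (Q : Set X) := by
        rw [mem_centralizer_iff]
        intro q hq
        have h6 : q ∈ Q ⊓ centralizer ({(g : X)} : Set X) := by rw [h4]; exact hq
        exact (mem_centralizer_singleton_iff.mp h6.2)
      have h6 : (g : X) ∈ L' ⊓ Q := ⟨g.2, hC h5⟩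
      rw [hLQ, mem_bot] at h6
      rw [h6, orderOf_one] at hg'
      exact hr.one_lt.ne hg'
    rw [hi, hb] at h1
    refine ⟨i - b, by omega, by omega, ?_⟩
    have h2 : 3 ^ i = 3 ^ b * 3 ^ (i - b) := by rw [← pow_add]; congr 1; omega
    rw [h2] at h1
    have h4 : 3 ^ b * 3 ^ (i - b) ≡ 3 ^ b * 1 [MOD r] := by rwa [mul_one]
    have h5 := Nat.ModEq.cancel_left_of_coprime (by
      exact (Nat.Coprime.pow_right b ((Nat.coprime_primes hr Nat.prime_three).mpr hr3))) h4
    exact (Nat.modEq_iff_dvd' (Nat.one_le_pow _ _ (by norm_num))).mp h5.symm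

/-- A group with a central subgroup of order 3 and simple quotient is not 3-constrained. -/
theorem not_pConstrained_of_central {Z : Subgroup H} [Z.Normal] (hZc : Z ≤ center H) (hZ3 : IsPGroup 3 Z)
    (hs : IsSimpleGroup (H ⧸ Z)) (hn : ¬ IsMulCommutative (H ⧸ Z)) (h3 : 3 ∣ Nat.card (H ⧸ Z)) :
    ¬ IsPConstrained 3 H := by
  have h3f : Fact (Nat.Prime 3) := ⟨Nat.prime_three⟩
  intro h
  have hN : pPrimeCore 3 H = ⊥ := by
    set N := pPrimeCore 3 H with hN
    have hNn : N.Normal := Lib.Cores.pPrimeCore_normal 3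
    have hNc : (Nat.card N).Coprime 3 := Lib.Cores.pPrimeCore_coprime 3
    have h1 : (N.map (QuotientGroup.mk' Z)).Normal := hNn.map _ (QuotientGroup.mk'_surjective Z)
    rcases h1.eq_bot_or_eq_top with h2 | h2
    · rw [Subgroup.map_eq_bot_iff, QuotientGroup.ker_mk'] at h2
      have h4 : IsPGroup 3 N := hZ3.to_le h2
      obtain ⟨k, hk⟩ := IsPGroup.iff_card.mp h4
      rw [hk] at hNc
      rcases Nat.eq_zero_or_pos k with rfl | hk0
      · rwa [pow_zero, Subgroup.card_eq_one] at hk
      · exact absurd ((Nat.coprime_pow_left_iff hk0 _ _).1 hNc) (by decide)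
    · exfalso
      have h4 : Nat.card (N.map (QuotientGroup.mk' Z)) ∣ Nat.card N := Subgroup.card_map_dvd _ _
      rw [h2, Subgroup.card_top] at h4
      exact (Nat.Prime.coprime_iff_not_dvd Nat.prime_three).mp hNc.symm (h3.trans h4)
  have hC := (PLocal.PConstrained.isPConstrained_iff_of_pPrimeCore_eq_bot hN).mp h
  have hQZ : pCore 3 H ≤ Z := by
    have h1 : ((pCore 3 H).map (QuotientGroup.mk' Z)).Normal :=
      (Lib.Cores.pCore_normal 3).map _ (QuotientGroup.mk'_surjective Z)
    rcases h1.eq_bot_or_eq_top with h2 | h2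
    · rwa [Subgroup.map_eq_bot_iff, QuotientGroup.ker_mk'] at h2
    · exfalso
      have h4 : IsPGroup 3 ((pCore 3 H).map (QuotientGroup.mk' Z)) := (Lib.Cores.pCore_isPGroup 3).map _
      rw [h2] at h4
      have h5 : IsPGroup 3 (H ⧸ Z) := h4.of_equiv Subgroup.topEquiv
      have h6 : Group.IsNilpotent (H ⧸ Z) := h5.isNilpotent
      exact hn ⟨⟨IsSimpleGroup.comm_iff_isSolvable.mpr inferInstance⟩⟩
  have h1 : (⊤ : Subgroup H) ≤ Z := by
    intro x _
    refine hQZ (hC ?_)
    rw [mem_centralizer_iff]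
    intro y hy
    exact (mem_center_iff.mp (hZc (hQZ hy)) x).symm
  refine hn ⟨⟨fun a b => ?_⟩⟩
  have h2 : ∀ a : H ⧸ Z, a = 1 := by
    intro a
    obtain ⟨a, rfl⟩ := QuotientGroup.mk'_surjective Z a
    exact (QuotientGroup.eq_one_iff a).mpr (h1 (mem_top a))
  rw [h2 a, h2 b]

end order

/-- **Order of a good group**: an element of order 3 commuting with a simple subgroup of order divisible by 3. -/
theorem Good.data {G : Type u} [Group G] (h : Good G) {x : G} (hx : orderOf x = 3) {L : Subgroup G}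
    (hLx : ∀ l ∈ L, l * x = x * l) (hL : IsSimpleGroup ↥L) (hLn : ¬ IsMulCommutative ↥L)
    (hL3 : 3 ∣ Nat.card ↥L) :
    ∃ i : ℕ, 3 ^ i * Nat.card ↥L ∣ Nat.card G ∧
      (∀ (V : Subgroup G) (m : ℕ), V ≤ L → (∀ v ∈ V, v * v = 1) → Nat.card ↥V = 2 ^ m → m + 1 ≤ i) ∧
      (∀ r : ℕ, r.Prime → r ≠ 3 → r ∣ Nat.card ↥L → ∃ k, 1 ≤ k ∧ k + 1 ≤ i ∧ r ∣ 3 ^ k - 1) := by
  have := h.fin
  have hLC : L ≤ centralizer ({x} : Set G) := fun l hl => mem_centralizer_singleton_iff.mpr (hLx l hl)
  have hxC : x ∈ centralizer ({x} : Set G) := mem_centralizer_singleton_iff.mpr rfl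
  set C := centralizer ({x} : Set G) with hC
  have e : ↥(L.subgroupOf C) ≃* ↥L := subgroupOfEquivOfLe hLC
  obtain ⟨i, h1, h2, h3⟩ := Kill.data (H := ↥C) (h.con x hx) (z := ⟨x, hxC⟩) (by rwa [← orderOf_coe])
    (by
      rw [mem_center_iff]
      intro g
      exact Subtype.ext (mem_centralizer_singleton_iff.mp g.2))
    (L := L.subgroupOf C) (e.isSimpleGroup_congr.mpr hL) (fun h4 => hLn ⟨⟨fun a b => by
      have := h4.is_comm.comm (e.symm a) (e.symm b)
      apply e.symm.injective
      rw [map_mul, map_mul]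
      exact this⟩⟩) (by rwa [Nat.card_congr e.toEquiv])
  refine ⟨i, ?_, ?_, ?_⟩
  · rw [Nat.card_congr e.toEquiv] at h1
    exact h1.trans (Subgroup.card_subgroup_dvd_card C)
  · intro V m hV hV2 hVc
    exact h2 (V.subgroupOf C) m (Subgroup.subgroupOf_mono C hV) (fun v hv => Subtype.ext (hV2 v hv))
      (by rw [Nat.card_congr (subgroupOfEquivOfLe (hV.trans hLC)).toEquiv, hVc])
  · intro r hr hr3 hrL
    exact h3 r hr hr3 (by rwa [Nat.card_congr e.toEquiv])

/-- `Good.data` for an embedded simple group -/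
theorem Good.hom_data {G : Type u} [Group G] (h : Good G) {x : G} (hx : orderOf x = 3) {L : Type v} [Group L]
    (f : L →* G) (hf : Function.Injective f) (hfx : ∀ l, f l * x = x * f l) (hL : IsSimpleGroup L)
    (hLn : ¬ IsMulCommutative L) (hL3 : 3 ∣ Nat.card L) :
    ∃ i : ℕ, 3 ^ i * Nat.card L ∣ Nat.card G ∧
      (∀ (V : Subgroup L) (m : ℕ), (∀ v ∈ V, v * v = 1) → Nat.card ↥V = 2 ^ m → m + 1 ≤ i) ∧
      (∀ r : ℕ, r.Prime → r ≠ 3 → r ∣ Nat.card L → ∃ k, 1 ≤ k ∧ k + 1 ≤ i ∧ r ∣ 3 ^ k - 1) := by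
  have e : L ≃* ↥f.range := MonoidHom.ofInjective hf
  obtain ⟨i, h1, h2, h3⟩ := h.data hx (L := f.range) (by
    rintro _ ⟨l, rfl⟩
    exact hfx l) (e.isSimpleGroup_congr.mp hL) (fun h4 => hLn ⟨⟨fun a b => by
      have := h4.is_comm.comm (e a) (e b)
      apply e.injective
      rw [map_mul, map_mul]
      exact this⟩⟩) (by rwa [← Nat.card_congr e.toEquiv])
  refine ⟨i, by rwa [← Nat.card_congr e.toEquiv] at h1, ?_, ?_⟩
  · intro V m hV hVc
    refine h2 (V.map f) m (by rw [MonoidHom.range_eq_map]; exact Subgroup.map_mono le_top) ?_ ?_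
    · rintro _ ⟨v, hv, rfl⟩
      rw [← map_mul, hV v hv, map_one]
    · rw [← hVc]
      exact (Nat.card_congr (V.equivMapOfInjective f hf).toEquiv).symm
  · intro r hr hr3 hrL
    exact h3 r hr hr3 (by rwa [← Nat.card_congr e.toEquiv])

end Cfsg.Agent.H320.Kill
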