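import Mathlib

/-!
# Elementary abelian 3-groups of projective transformations in dimension three (helper320)

`card_le_nine` : a finite set `E` of commuting (modulo scalars) operators of order three modulo scalars on a space of
dimension three over a field of characteristic not three, pairwise different modulo scalars, has at most nine elements.
-/

set_option autoImplicit false

namespace Cfsg.Agent.H320.Kill.RThree

open Module

universe u v

theorem card_roots {L : Type*} [Field L] [DecidableEq L] : (Polynomial.nthRootsFinset 3 (1 : L)).card ≤ 3 := by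
  rw [Polynomial.nthRootsFinset_def]
  exact (Multiset.toFinset_card_le _).trans (Polynomial.card_nthRoots 3 1)

section

variable {L : Type u} [Field L] [IsAlgClosed L] {V : Type v} [AddCommGroup V] [Module L V]
  {E : Type*} {s : E → End L V}

/-- the commuting case -/
theorem card_le_of_comm [Finite E] (h3 : (3 : L) ≠ 0) {n : ℕ} (hV : finrank L V = n + 1)
    (hc : ∀ e e', s e * s e' = s e' * s e) (hs : ∀ e, ∃ μ : L, μ ≠ 0 ∧ s e ^ 3 = μ • 1)
    (hinj : ∀ e e', ∀ c : L, s e = c • s e' → e = e') : Nat.card E ≤ 3 ^ n := by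
  classical
  have hfd : FiniteDimensional L V := FiniteDimensional.of_finrank_pos (by omega)
  choose μ hμ0 hμ using hs
  -- every operator is semisimple
  have hss : ∀ e, (s e).IsFinitelySemisimple := by
    intro e
    refine Module.End.IsSemisimple.isFinitelySemisimple
      (Module.End.isSemisimple_of_squarefree_aeval_eq_zero
        (Polynomial.separable_X_pow_sub_C (n := 3) (μ e) (by exact_mod_cast h3) (hμ0 e)).squarefree ?_)
    rw [map_sub, map_pow, Polynomial.aeval_X, Polynomial.aeval_C, hμ e, Algebra.algebraMap_eq_smul_one, sub_self]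
  have hee : ∀ e (t : L), (s e).maxGenEigenspace t = (s e).eigenspace t := fun e t =>
    (hss e).maxGenEigenspace_eq_eigenspace t
  let W : (E → L) → Submodule L V := fun χ => ⨅ e, (s e).maxGenEigenspace (χ e)
  have hW : ∀ χ v, v ∈ W χ ↔ ∀ e, s e v = χ e • v := by
    intro χ v
    simp only [W, Submodule.mem_iInf, hee, Module.End.mem_eigenspace_iff]
  have htop : ⨆ χ, W χ = ⊤ :=
    Module.End.iSup_iInf_maxGenEigenspace_eq_top_of_iSup_maxGenEigenspace_eq_top_of_commute s
      (fun i j _ => hc i j) (fun i => Module.End.iSup_maxGenEigenspace_eq_top (s i))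
  have hind : iSupIndep W := by
    refine Module.End.independent_iInf_maxGenEigenspace_of_forall_mapsTo s ?_
    intro i j t v hv
    rw [hee] at hv ⊢
    rw [SetLike.mem_coe, Module.End.mem_eigenspace_iff] at hv ⊢
    rw [← Module.End.mul_apply, ← hc, Module.End.mul_apply, hv, map_smul]
  have hfin : Finite {χ // W χ ≠ ⊥} := by
    have := WellFoundedGT.finite_ne_bot_of_iSupIndep hind
    exact this
  have : Fintype {χ // W χ ≠ ⊥} := Fintype.ofFinite _
  have hcard : Fintype.card {χ // W χ ≠ ⊥} ≤ n + 1 := by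
    rw [← hV]
    exact hind.subtype_ne_bot_le_finrank
  -- a weight
  have hne : Nonempty {χ // W χ ≠ ⊥} := by
    by_contra hcon
    rw [not_nonempty_iff] at hcon
    have h1 : ∀ χ, W χ = ⊥ := fun χ => by
      by_contra h2
      exact hcon.false ⟨χ, h2⟩
    have h2 : (⊤ : Submodule L V) = ⊥ := by
      rw [← htop]
      simp only [h1, iSup_bot]
    have h4 := finrank_top L V
    rw [h2, finrank_bot, hV] at h4
    omega
  obtain ⟨χ₀⟩ := hne
  have hcube : ∀ (χ : {χ // W χ ≠ ⊥}) (e : E), χ.1 e ^ 3 = μ e := by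
    intro χ e
    obtain ⟨v, hv, hv0⟩ := Submodule.exists_mem_ne_zero_of_ne_bot χ.2
    have h1 : s e v = χ.1 e • v := (hW _ _).mp hv e
    have h2 : (s e ^ 3) v = (χ.1 e ^ 3) • v := by
      rw [pow_succ, pow_two, Module.End.mul_apply, Module.End.mul_apply, h1, map_smul, h1, map_smul, map_smul, h1,
        smul_smul, smul_smul]
      congr 1
      ring
    rw [hμ e, LinearMap.smul_apply, Module.End.one_apply] at h2
    have h4 : (μ e - χ.1 e ^ 3) • v = 0 := by rw [sub_smul, h2, sub_self]
    exact (sub_eq_zero.mp ((smul_eq_zero.mp h4).resolve_right hv0)).symm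
  have hne0 : ∀ (χ : {χ // W χ ≠ ⊥}) (e : E), χ.1 e ≠ 0 := by
    intro χ e h
    have h1 := hcube χ e
    rw [h, zero_pow (by norm_num)] at h1
    exact hμ0 e h1.symm
  have hroot : ∀ (χ : {χ // W χ ≠ ⊥}) (e : E),
      χ.1 e / χ₀.1 e ∈ Polynomial.nthRootsFinset 3 (1 : L) := by
    intro χ e
    rw [Polynomial.mem_nthRootsFinset (by norm_num), div_pow, hcube, hcube, div_self (hμ0 e)]
  let Φ : E → ({χ : {χ // W χ ≠ ⊥} // χ ≠ χ₀} → ↥(Polynomial.nthRootsFinset 3 (1 : L))) :=
    fun e χ => ⟨χ.1.1 e / χ₀.1 e, hroot χ.1 e⟩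
  have hΦ : Function.Injective Φ := by
    intro e e' h
    have h1 : ∀ χ : {χ // W χ ≠ ⊥}, χ.1 e = (χ₀.1 e / χ₀.1 e') * χ.1 e' := by
      intro χ
      by_cases hχ : χ = χ₀
      · rw [hχ, div_mul_cancel₀ _ (hne0 χ₀ e')]
      · have h2 : χ.1 e / χ₀.1 e = χ.1 e' / χ₀.1 e' := congrArg Subtype.val (congrFun h ⟨χ, hχ⟩)
        rw [div_eq_div_iff (hne0 χ₀ e) (hne0 χ₀ e')] at h2
        rw [div_mul_eq_mul_div, eq_div_iff (hne0 χ₀ e'), h2, mul_comm]
    apply hinj e e' (χ₀.1 e / χ₀.1 e')
    have h2 : (⊤ : Submodule L V) ≤ LinearMap.eqLocus (s e) ((χ₀.1 e / χ₀.1 e') • s e') := by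
      rw [← htop, iSup_le_iff]
      intro χ v hv
      rw [LinearMap.mem_eqLocus, LinearMap.smul_apply]
      by_cases hχ : W χ = ⊥
      · rw [hχ, Submodule.mem_bot] at hv
        rw [hv, map_zero, map_zero, smul_zero]
      · rw [(hW _ _).mp hv e, (hW _ _).mp hv e', smul_smul, ← h1 ⟨χ, hχ⟩]
    apply LinearMap.ext
    intro v
    exact h2 trivial
  have hc1 := Nat.card_le_card_of_injective Φ hΦ
  refine hc1.trans ?_
  rw [Nat.card_eq_fintype_card, Fintype.card_fun, Fintype.card_coe]
  have h5 : Fintype.card {χ : {χ // W χ ≠ ⊥} // χ ≠ χ₀} ≤ n := by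
    have := Fintype.card_subtype_compl (fun χ : {χ // W χ ≠ ⊥} => χ = χ₀)
    rw [Fintype.card_subtype_eq] at this
    have h6 : Fintype.card {χ : {χ // W χ ≠ ⊥} // χ ≠ χ₀} = Fintype.card {χ // W χ ≠ ⊥} - 1 := this
    omega
  calc (Polynomial.nthRootsFinset 3 (1 : L)).card ^ Fintype.card {χ : {χ // W χ ≠ ⊥} // χ ≠ χ₀}
      ≤ 3 ^ Fintype.card {χ : {χ // W χ ≠ ⊥} // χ ≠ χ₀} := Nat.pow_le_pow_left card_roots _
    _ ≤ 3 ^ n := Nat.pow_le_pow_right (by norm_num) h5

/-- an operator commuting with two operators commuting up to a cube root of unity is a scalar -/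
theorem scalar_of_comm (hV : finrank L V = 3) {g h k : End L V} {w : L} (hw3 : w ^ 3 = 1) (hw1 : w ≠ 1)
    {μ ν : L} (hμ : μ ≠ 0) (hg : g ^ 3 = μ • 1) (hν : ν ≠ 0) (hh : h ^ 3 = ν • 1) (hgh : g * h = w • (h * g))
    (hkg : k * g = g * k) (hkh : k * h = h * k) : ∃ c : L, k = c • 1 := by
  classical
  have hfd : FiniteDimensional L V := FiniteDimensional.of_finrank_pos (by omega)
  have : Nontrivial V := Module.nontrivial_of_finrank_pos (R := L) (by omega)
  obtain ⟨t, ht⟩ := Module.End.exists_eigenvalue g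
  obtain ⟨v, hv⟩ := ht.exists_hasEigenvector
  have hv0 := hv.2
  have hv1 : g v = t • v := hv.apply_eq_smul
  have hw0 : w ≠ 0 := by
    rintro rfl
    rw [zero_pow (by norm_num)] at hw3
    exact zero_ne_one hw3
  have ht0 : t ≠ 0 := by
    rintro rfl
    have h1 : (g ^ 3) v = 0 := by
      rw [pow_succ, Module.End.mul_apply, hv1, zero_smul, map_zero]
    rw [hg, LinearMap.smul_apply, Module.End.one_apply] at h1
    exact hv0 ((smul_eq_zero.mp h1).resolve_left hμ)
  have hhinj : ∀ u, h u = 0 → u = 0 := by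
    intro u hu
    have h1 : (h ^ 3) u = 0 := by
      rw [pow_succ, Module.End.mul_apply, hu, map_zero]
    rw [hh, LinearMap.smul_apply, Module.End.one_apply] at h1
    exact (smul_eq_zero.mp h1).resolve_left hν
  have hgh' : ∀ u, g (h u) = w • h (g u) := by
    intro u
    have h1 := LinearMap.congr_fun hgh u
    rwa [Module.End.mul_apply, LinearMap.smul_apply, Module.End.mul_apply] at h1
  -- the eigenvectors
  have e1 : g (h v) = (w * t) • h v := by
    rw [hgh', hv1, map_smul, smul_smul]
  have e2 : g (h (h v)) = (w ^ 2 * t) • h (h v) := by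
    rw [hgh', e1, map_smul, smul_smul]
    congr 1
    ring
  have h10 : h v ≠ 0 := fun h1 => hv0 (hhinj v h1)
  have h20 : h (h v) ≠ 0 := fun h1 => h10 (hhinj _ h1)
  let b : Fin 3 → V := ![v, h v, h (h v)]
  let m : Fin 3 → L := ![t, w * t, w ^ 2 * t]
  have hw2 : w ^ 2 ≠ 1 := by
    intro h1
    apply hw1
    have : w ^ 3 = w ^ 2 * w := by ring
    rw [hw3, h1, one_mul] at this
    exact this.symm
  have hw21 : w ^ 2 ≠ w := by
    intro h1
    apply hw1
    have h2 : w * w = w * 1 := by rw [← pow_two, h1, mul_one]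
    exact mul_left_cancel₀ hw0 h2
  have hm : Function.Injective m := by
    intro i j hij
    fin_cases i <;> fin_cases j <;> simp only [m, Matrix.cons_val_zero, Matrix.cons_val_one, Matrix.cons_val_two,
      Fin.zero_eta, Fin.mk_one, Fin.reduceFinMk, Matrix.tail_cons, Matrix.head_cons] at hij ⊢
    · exact absurd (mul_right_cancel₀ ht0 (by rw [one_mul]; exact hij.symm)) hw1
    · exact absurd (mul_right_cancel₀ ht0 (by rw [one_mul]; exact hij.symm)) hw2
    · exact absurd (mul_right_cancel₀ ht0 (by rw [one_mul]; exact hij)) hw1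
    · exact absurd (mul_right_cancel₀ ht0 hij).symm hw21
    · exact absurd (mul_right_cancel₀ ht0 (by rw [one_mul]; exact hij)) hw2
    · exact absurd (mul_right_cancel₀ ht0 hij) hw21
  have hb : LinearIndependent L b := by
    refine Module.End.eigenvectors_linearIndependent' g m hm b ?_
    intro i
    rw [Module.End.hasEigenvector_iff, Module.End.mem_eigenspace_iff]
    fin_cases i
    · exact ⟨hv1, hv0⟩
    · exact ⟨e1, h10⟩
    · exact ⟨e2, h20⟩
  let B : Basis (Fin 3) L V := basisOfLinearIndependentOfCardEqFinrank hb (by rw [hV, Fintype.card_fin])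
  have hB : ⇑B = b := coe_basisOfLinearIndependentOfCardEqFinrank hb _
  -- `k v` is a multiple of `v`
  have hkv : ∃ c : L, k v = c • v := by
    have h1 : g (k v) = t • k v := by
      have h2 := LinearMap.congr_fun hkg v
      rw [Module.End.mul_apply, Module.End.mul_apply, hv1, map_smul] at h2
      exact h2.symm
    have hsum := B.sum_repr (k v)
    rw [Fin.sum_univ_three, hB] at hsum
    set a := B.repr (k v)
    have h2 : g (k v) = t • k v := h1
    rw [← hsum] at h2
    simp only [b, Matrix.cons_val_zero, Matrix.cons_val_one, Matrix.cons_val_two, Matrix.tail_cons,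
      Matrix.head_cons, map_add, map_smul, hv1, e1, e2] at h2
    have h4 : (0 : L) • b 0 + (a 1 * ((w - 1) * t)) • b 1 + (a 2 * ((w ^ 2 - 1) * t)) • b 2 = 0 := by
      simp only [b, Matrix.cons_val_zero, Matrix.cons_val_one, Matrix.cons_val_two, Matrix.tail_cons,
        Matrix.head_cons]
      have h5 := sub_eq_zero.mpr h2
      rw [← h5]
      module
    have h6 := Fintype.linearIndependent_iff.mp hb ![0, a 1 * ((w - 1) * t), a 2 * ((w ^ 2 - 1) * t)] (by
      rw [Fin.sum_univ_three]
      exact h4)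
    have h7 := h6 1
    have h8 := h6 2
    simp only [Matrix.cons_val_one, Matrix.cons_val_two, Matrix.tail_cons,
        Matrix.head_cons, Matrix.cons_val, mul_eq_zero, ht0, or_false, sub_eq_zero, hw1, hw2] at h7 h8
    refine ⟨a 0, ?_⟩
    rw [← hsum, h7, h8, zero_smul, zero_smul, add_zero, add_zero]
    rfl
  obtain ⟨c, hc⟩ := hkv
  have hkh' : ∀ u, k (h u) = h (k u) := by
    intro u
    have h1 := LinearMap.congr_fun hkh u
    rwa [Module.End.mul_apply, Module.End.mul_apply] at h1
  refine ⟨c, B.ext fun i => ?_⟩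
  rw [hB, LinearMap.smul_apply, Module.End.one_apply]
  fin_cases i
  · exact hc
  · show k (h v) = c • h v
    rw [hkh', hc, map_smul]
  · show k (h (h v)) = c • h (h v)
    rw [hkh', hkh', hc, map_smul, map_smul]

/-- **The bound.** -/
theorem card_le_nine [Finite E] (h3 : (3 : L) ≠ 0) (hV : finrank L V = 3)
    (hc : ∀ e e', ∃ c : L, c ^ 3 = 1 ∧ s e * s e' = c • (s e' * s e)) (hs : ∀ e, ∃ μ : L, μ ≠ 0 ∧ s e ^ 3 = μ • 1)
    (hinj : ∀ e e', ∀ c : L, s e = c • s e' → e = e') : Nat.card E ≤ 9 := by
  classical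
  by_cases hcomm : ∀ e e', s e * s e' = s e' * s e
  · exact card_le_of_comm (n := 2) h3 hV hcomm hs hinj
  push Not at hcomm
  obtain ⟨g, h, hgh⟩ := hcomm
  choose c hc3 hc using hc
  choose μ hμ0 hμ using hs
  have hw1 : c g h ≠ 1 := by
    intro h1
    apply hgh
    rw [hc g h, h1, one_smul]
  let Φ : E → ↥(Polynomial.nthRootsFinset 3 (1 : L)) × ↥(Polynomial.nthRootsFinset 3 (1 : L)) := fun k =>
    (⟨c k g, by rw [Polynomial.mem_nthRootsFinset (by norm_num)]; exact hc3 k g⟩,
      ⟨c k h, by rw [Polynomial.mem_nthRootsFinset (by norm_num)]; exact hc3 k h⟩)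
  have hc0 : ∀ e e', c e e' ≠ 0 := by
    intro e e' h0
    have h1 := hc3 e e'
    rw [h0, zero_pow (by norm_num)] at h1
    exact zero_ne_one h1
  have hΦ : Function.Injective Φ := by
    intro k k' hk
    have h1 : c k g = c k' g := congrArg Subtype.val (congrArg Prod.fst hk)
    have h2 : c k h = c k' h := congrArg Subtype.val (congrArg Prod.snd hk)
    -- `k'² k` commutes with `g` and `h`
    have key : ∀ x, c k x = c k' x → (s k' * s k' * s k) * s x = s x * (s k' * s k' * s k) := by
      intro x hx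
      have a1 := hc k x
      have a2 := hc k' x
      calc (s k' * s k' * s k) * s x = s k' * s k' * (s k * s x) := by simp only [mul_assoc]
        _ = s k' * s k' * (c k x • (s x * s k)) := by rw [a1]
        _ = c k x • (s k' * (s k' * s x) * s k) := by simp only [mul_smul_comm, mul_assoc]
        _ = c k x • (s k' * (c k' x • (s x * s k')) * s k) := by rw [a2]
        _ = (c k x * c k' x) • ((s k' * s x) * s k' * s k) := by
            simp only [mul_smul_comm, smul_mul_assoc, smul_smul, mul_assoc]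
        _ = (c k x * c k' x) • ((c k' x • (s x * s k')) * s k' * s k) := by rw [a2]
        _ = (c k x * c k' x * c k' x) • (s x * s k' * s k' * s k) := by
            simp only [smul_mul_assoc, smul_smul]
        _ = s x * (s k' * s k' * s k) := by
            have h5 : c k x * c k' x * c k' x = 1 := by
              rw [hx, ← hc3 k' x]
              ring
            rw [h5, one_smul]
            simp only [mul_assoc]
    obtain ⟨d, hd⟩ := scalar_of_comm hV (hc3 g h) hw1 (hμ0 g) (hμ g) (hμ0 h) (hμ h) (hc g h) (key g h1) (key h h2)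
    -- multiply by `s k'`
    have h5 : s k' ^ 3 * s k = d • s k' := by
      calc s k' ^ 3 * s k = s k' * (s k' * s k' * s k) := by
            rw [pow_succ, pow_two]
            simp only [mul_assoc]
        _ = d • s k' := by rw [hd, mul_smul_comm, mul_one]
    rw [hμ k', smul_mul_assoc, one_mul] at h5
    apply hinj k k' ((μ k')⁻¹ * d)
    rw [← smul_smul, ← h5, smul_smul, inv_mul_cancel₀ (hμ0 k'), one_smul]
  have hc1 := Nat.card_le_card_of_injective Φ hΦ
  refine hc1.trans ?_
  rw [Nat.card_eq_fintype_card, Fintype.card_prod, Fintype.card_coe]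
  have := card_roots (L := L)
  calc _ ≤ 3 * 3 := Nat.mul_le_mul this this
    _ = 9 := by norm_num

end

section quot

variable {K : Type*} [Field K] {X : Type*} [Group X] {n : ℕ}

/-- **Elementary abelian 3-subgroups of the projective groups in dimension `2` and `3`.** -/
theorem card_le (h3 : (3 : K) ≠ 0) (hn : n = 1 ∨ n = 2) (ρ : X →* Matrix (Fin (n + 1)) (Fin (n + 1)) K)
    (hdet : ∀ x, (ρ x).det = 1) (hcen : ∀ x ∈ Subgroup.center X, ∃ c : K, ρ x = c • 1)
    (hcen' : ∀ x, (∃ c : K, ρ x = c • 1) → x ∈ Subgroup.center X) {E : Subgroup (X ⧸ Subgroup.center X)} [Finite E]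
    (hE : ∀ a ∈ E, ∀ b ∈ E, a * b = b * a) (hE3 : ∀ a ∈ E, a ^ 3 = 1) : Nat.card E ≤ 3 ^ n := by
  classical
  let L := AlgebraicClosure K
  let i : K →+* L := algebraMap K L
  have hi : Function.Injective i := i.injective
  have hL3 : (3 : L) ≠ 0 := by
    intro h
    apply h3
    apply hi
    rw [map_zero, map_ofNat]
    exact h
  -- the matrices over the closure
  let M : X →* Matrix (Fin (n + 1)) (Fin (n + 1)) L := (i.mapMatrix : Matrix (Fin (n + 1)) (Fin (n + 1)) K →+* Matrix (Fin (n + 1)) (Fin (n + 1)) L).toMonoidHom.comp ρ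
  have hM : ∀ x, M x = i.mapMatrix (ρ x) := fun _ => rfl
  have hsc : ∀ x, (∃ c : L, M x = c • 1) → x ∈ Subgroup.center X := by
    rintro x ⟨c, hc⟩
    apply hcen'
    refine ⟨ρ x 0 0, ?_⟩
    have h1 : ∀ a b, i (ρ x a b) = (c • (1 : Matrix (Fin (n + 1)) (Fin (n + 1)) L)) a b := fun a b =>
      congrFun (congrFun hc a) b
    ext a b
    apply hi
    rw [h1, Matrix.smul_apply, Matrix.smul_apply, smul_eq_mul, smul_eq_mul, map_mul, h1 0 0, Matrix.smul_apply,
      Matrix.one_apply_eq, smul_eq_mul, mul_one]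
    by_cases hab : a = b
    · rw [hab, Matrix.one_apply_eq, Matrix.one_apply_eq, map_one]
    · rw [Matrix.one_apply_ne hab, Matrix.one_apply_ne hab, map_zero]
  have hsc' : ∀ x ∈ Subgroup.center X, ∃ c : L, c ^ (n + 1) = 1 ∧ M x = c • 1 := by
    intro x hx
    obtain ⟨c, hc⟩ := hcen x hx
    refine ⟨i c, ?_, ?_⟩
    · have h1 := hdet x
      rw [hc, Matrix.det_smul, Matrix.det_one, mul_one, Fintype.card_fin] at h1
      rw [← map_pow, h1, map_one]
    · rw [hM, hc]
      ext a b
      simp only [RingHom.mapMatrix_apply, Matrix.map_apply, Matrix.smul_apply, smul_eq_mul, map_mul]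
      by_cases hab : a = b
      · rw [hab, Matrix.one_apply_eq, Matrix.one_apply_eq, map_one]
      · rw [Matrix.one_apply_ne hab, Matrix.one_apply_ne hab, map_zero]
  let lift : E → X := fun e => e.1.out
  have hlift : ∀ e, (QuotientGroup.mk (lift e) : X ⧸ Subgroup.center X) = e.1 := fun e => Quotient.out_eq' e.1
  let s : E → Module.End L (Fin (n + 1) → L) := fun e => Matrix.toLinAlgEquiv' (M (lift e))
  have hV : finrank L (Fin (n + 1) → L) = n + 1 := by rw [finrank_fin_fun]
  have hMu : ∀ x, IsUnit (M x) := fun x => (Group.isUnit x).map M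
  -- commutation
  have hc : ∀ e e', ∃ c : L, c ^ (n + 1) = 1 ∧ s e * s e' = c • (s e' * s e) := by
    intro e e'
    have h1 : lift e * lift e' * (lift e' * lift e)⁻¹ ∈ Subgroup.center X := by
      rw [← QuotientGroup.eq_one_iff, QuotientGroup.mk_mul, QuotientGroup.mk_inv, QuotientGroup.mk_mul,
        QuotientGroup.mk_mul, hlift, hlift, hE e.1 e.2 e'.1 e'.2, mul_inv_cancel]
    obtain ⟨c, hcn, hc⟩ := hsc' _ h1
    refine ⟨c, hcn, ?_⟩
    have h2 : M (lift e) * M (lift e') = c • (M (lift e') * M (lift e)) := by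
      rw [← map_mul, ← map_mul]
      have h4 : lift e * lift e' = (lift e * lift e' * (lift e' * lift e)⁻¹) * (lift e' * lift e) := by group
      rw [h4, map_mul, hc, smul_mul_assoc, one_mul]
    show Matrix.toLinAlgEquiv' _ * Matrix.toLinAlgEquiv' _ = _
    rw [← map_mul, h2, map_smul, map_mul]
  have hs : ∀ e, ∃ μ : L, μ ≠ 0 ∧ s e ^ 3 = μ • 1 := by
    intro e
    have h1 : lift e ^ 3 ∈ Subgroup.center X := by
      rw [← QuotientGroup.eq_one_iff, QuotientGroup.mk_pow, hlift, hE3 e.1 e.2]
    obtain ⟨c, hcn, hc⟩ := hsc' _ h1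
    refine ⟨c, ?_, ?_⟩
    · rintro rfl
      rw [zero_pow (Nat.succ_ne_zero n)] at hcn
      exact zero_ne_one hcn
    · show (Matrix.toLinAlgEquiv' (M (lift e))) ^ 3 = _
      rw [← map_pow, ← map_pow, hc, map_smul, map_one]
  have hinj : ∀ e e', ∀ c : L, s e = c • s e' → e = e' := by
    intro e e' c h
    have h1 : M (lift e) = c • M (lift e') := by
      apply (Matrix.toLinAlgEquiv' (R := L) (n := Fin (n + 1))).injective
      rw [map_smul]
      exact h
    have h2 : lift e * (lift e')⁻¹ ∈ Subgroup.center X := by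
      apply hsc
      refine ⟨c, ?_⟩
      rw [map_mul, h1, smul_mul_assoc, ← map_mul, mul_inv_cancel, map_one]
    rw [← QuotientGroup.eq_one_iff, QuotientGroup.mk_mul, QuotientGroup.mk_inv, hlift, hlift, mul_inv_eq_one] at h2
    exact Subtype.ext h2
  have hcube : ∀ e e', ∀ c : L, c ≠ 0 → s e * s e' = c • (s e' * s e) → c ^ 3 = 1 := by
    intro e e' c hc0 hc
    obtain ⟨μ, hμ0, hμ⟩ := hs e
    obtain ⟨ν, hν0, hν⟩ := hs e'
    have h1 : s e ^ 3 * s e' = c ^ 3 • (s e' * s e ^ 3) := by
      calc s e ^ 3 * s e' = s e * (s e * (s e * s e')) := by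
            rw [pow_succ, pow_two]
            simp only [mul_assoc]
        _ = c ^ 3 • (s e' * s e ^ 3) := by
            rw [hc, mul_smul_comm, ← mul_assoc (s e) (s e') (s e), hc, smul_mul_assoc, mul_smul_comm, mul_smul_comm,
              mul_assoc (s e') (s e) (s e), ← mul_assoc (s e) (s e') (s e * s e), hc, smul_mul_assoc, smul_smul,
              smul_smul, pow_succ (s e), pow_two]
            congr 1
            ring
    rw [hμ, smul_mul_assoc, one_mul, mul_smul_comm, mul_one, smul_smul] at h1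
    have h2 : s e' ≠ 0 := by
      intro h0
      rw [h0, zero_pow (by norm_num)] at hν
      have : (1 : Module.End L (Fin (n + 1) → L)) = 0 := by
        have h4 := hν.symm
        exact (smul_eq_zero.mp h4).resolve_left hν0
      exact one_ne_zero this
    obtain ⟨v, hv⟩ : ∃ v, s e' v ≠ 0 := by
      by_contra hcon
      push Not at hcon
      exact h2 (LinearMap.ext hcon)
    have h4 := LinearMap.congr_fun h1 v
    rw [LinearMap.smul_apply, LinearMap.smul_apply] at h4
    have h5 : μ = c ^ 3 * μ := smul_left_injective L hv h4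
    exact (mul_right_cancel₀ hμ0 (by rw [one_mul]; exact h5)).symm
  rcases hn with rfl | rfl
  · refine card_le_of_comm (n := 1) hL3 hV ?_ hs hinj
    intro e e'
    obtain ⟨c, hc2, hc⟩ := hc e e'
    have hc0 : c ≠ 0 := by
      rintro rfl
      rw [zero_pow (by norm_num)] at hc2
      exact zero_ne_one hc2
    have hc3 := hcube e e' c hc0 hc
    have hc1 : c = 1 := by
      have : c ^ 3 = c ^ 2 * c := by ring
      rw [hc3, hc2, one_mul] at this
      exact this.symm
    rw [hc, hc1, one_smul]
  · exact card_le_nine hL3 hV hc hs hinj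

end quot

end Cfsg.Agent.H320.Kill.RThree
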