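import Cfsg.Agent.GpUn.Row
import Cfsg.Agent.H320.Kill.Base
import Cfsg.Agent.H320.Kill.RankThree

/-!
# The groups of 3-rank at most two: `PSL_2(q)`, `PSL_3(q)`, `PSU_3(q)` (helper320)
-/

set_option autoImplicit false

namespace Cfsg.Agent.H320.Kill

open Cfsg Module Matrix Subgroup
open Cfsg.Agent.LieClassical.SUBasic (mem_center_SU_iff suScalar coe_suScalar)

theorem rank_psl {K : Type*} [Field K] [Finite K] (h3 : (3 : K) ≠ 0) {n : ℕ} (hn : n = 1 ∨ n = 2) :
    PRankLE 3 n (Matrix.ProjectiveSpecialLinearGroup (Fin (n + 1)) K) := by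
  intro E hE hE3
  have hfin : Finite (Matrix.SpecialLinearGroup (Fin (n + 1)) K) := inferInstance
  have hfin2 : Finite (Matrix.ProjectiveSpecialLinearGroup (Fin (n + 1)) K) := Quotient.finite _
  have hfinE : Finite E := inferInstance
  refine RThree.card_le (X := Matrix.SpecialLinearGroup (Fin (n + 1)) K) h3 hn
    { toFun := fun A => A.1, map_one' := rfl, map_mul' := fun _ _ => rfl } ?_ ?_ ?_ ?_ hE3
  · intro A
    exact A.2
  · intro A hA
    obtain ⟨r, -, hr⟩ := Matrix.SpecialLinearGroup.mem_center_iff.mp hA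
    refine ⟨r, ?_⟩
    show A.1 = _
    rw [← hr, Matrix.smul_one_eq_diagonal]
    rfl
  · rintro A ⟨c, hc⟩
    rw [Matrix.SpecialLinearGroup.mem_center_iff]
    have hc' : A.1 = c • 1 := hc
    refine ⟨c, ?_, ?_⟩
    · have h1 := A.2
      rw [hc', Matrix.det_smul, Matrix.det_one, mul_one] at h1
      exact h1
    · rw [hc', Matrix.smul_one_eq_diagonal]
      rfl
  · intro a ha b hb
    exact congrArg Subtype.val (hE.is_comm.comm ⟨a, ha⟩ ⟨b, hb⟩)

theorem rank_psu {K : Type*} [Field K] [Fintype K] {q : ℕ} (hK : Fintype.card K = q ^ 2) (h3 : (3 : K) ≠ 0) :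
    PRankLE 3 2 (PSU 3 K q) := by
  intro E hE hE3
  refine RThree.card_le (X := SU 3 K q) (n := 2) h3 (Or.inr rfl)
    { toFun := fun A => A.1.1, map_one' := rfl, map_mul' := fun _ _ => rfl } ?_ ?_ ?_ ?_ hE3
  · intro A
    exact A.1.2
  · intro A hA
    obtain ⟨c, hcn, hcq, rfl⟩ := (mem_center_SU_iff hK le_rfl A).mp hA
    refine ⟨c, ?_⟩
    show (suScalar q c hcn hcq).1.1 = _
    rw [coe_suScalar, Matrix.smul_one_eq_diagonal]
  · rintro A ⟨c, hc⟩
    rw [Subgroup.mem_center_iff]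
    intro B
    apply Subtype.ext
    apply Subtype.ext
    show B.1.1 * A.1.1 = A.1.1 * B.1.1
    have hc' : A.1.1 = c • 1 := hc
    rw [hc', mul_smul_comm, smul_mul_assoc, mul_one, one_mul]
  · intro a ha b hb
    exact congrArg Subtype.val (hE.is_comm.comm ⟨a, ha⟩ ⟨b, hb⟩)

theorem three_ne_zero_of_card {K : Type*} [Field K] [Fintype K] {m : ℕ} (h : Fintype.card K = 2 ^ m) :
    (3 : K) ≠ 0 := by
  intro h3
  have h1 : Fact (Nat.Prime 2) := ⟨Nat.prime_two⟩
  have h2 : CharP K 2 := charP_of_card_eq_prime_pow (f := m) h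
  have h4 : ((3 : ℕ) : K) = 0 := by exact_mod_cast h3
  rw [CharP.cast_eq_zero_iff K 2] at h4
  omega

theorem prankLE_mono {G : Type*} [Group G] {p k l : ℕ} (hp : 0 < p) (hkl : k ≤ l) (h : PRankLE p k G) :
    PRankLE p l G := fun A hA hA3 => (h A hA hA3).trans (Nat.pow_le_pow_right hp hkl)

end Cfsg.Agent.H320.Kill
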