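import Cfsg.Agent.GpLn.Quot
import Cfsg.Agent.H320.Kill.RankTwo

/-!
# The groups `PSL_n(q)`, `q` even (helper320)
-/

set_option autoImplicit false

namespace Cfsg.Agent.H320.Kill

open Subgroup Cfsg Matrix Cfsg.Agent.GpLn.Block Cfsg.Agent.GpLn.Elem Cfsg.Agent.GpLn.Quot
open Cfsg.Agent.SignalizersComponents

universe u

section

variable {F : Type} [Field F] [Fintype F]

/-- the matrix of order three -/
def om3 (F : Type*) [Field F] : Matrix (Fin 2) (Fin 2) F := !![0, -1; 1, -1]

theorem om3_det : (om3 F).det = 1 := by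
  rw [om3, Matrix.det_fin_two_of]
  ring

theorem om3_cube : om3 F * om3 F * om3 F = 1 := by
  rw [om3, Matrix.mul_fin_two, Matrix.mul_fin_two, Matrix.one_fin_two]
  congr 1 <;> simp

theorem om3_sub : (om3 F - (1 : F) • (1 : Matrix (Fin 2) (Fin 2) F)).det = 3 := by
  rw [om3, Matrix.one_fin_two, one_smul, Matrix.det_fin_two]
  simp
  ring

/-- **`PSL_n(q)`, `q` even.** -/
theorem not_good_psl {k : ℕ} (hF : Fintype.card F = 2 ^ k) {n : ℕ} (hn : 2 ≤ n) {G : Type u} [Group G]
    (e : G ≃* Matrix.ProjectiveSpecialLinearGroup (Fin n) F) : ¬ Good G := by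
  intro hG
  have hfin := hG.fin
  have h3f : Fact (Nat.Prime 3) := ⟨Nat.prime_three⟩
  have h3 : (3 : F) ≠ 0 := three_ne_zero_of_card hF
  have hG' := hG.congr e
  rcases (show n = 2 ∨ n = 3 ∨ 4 ≤ n by omega) with rfl | rfl | hn4
  · exact not_good_of_rank (prankLE_mono (by norm_num) (by norm_num) (rank_psl (n := 1) h3 (Or.inl rfl))) hG'
  · exact not_good_of_rank (rank_psl (n := 2) h3 (Or.inr rfl)) hG'
  obtain ⟨m, rfl⟩ : ∃ m, n = 2 + m := ⟨n - 2, by omega⟩
  have hm : 2 ≤ m := by omega
  have hF1 := Fintype.one_lt_card (α := F)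
  by_cases h42 : m = 2 ∧ Fintype.card F < 4
  · -- `L_4(2)`
    obtain ⟨rfl, h4⟩ := h42
    have hq : Fintype.card F = 2 := by
      rw [hF] at h4 ⊢
      have hk : k < 2 := (Nat.pow_lt_pow_iff_right (by norm_num : 1 < 2)).mp (by simpa using h4)
      interval_cases k
      · rw [hF] at hF1
        norm_num at hF1
      · norm_num
    apply not_good_of_card _ hG
    intro h27
    have h1 := Cfsg.Agent.S0242.result (F := F) hq 4 (by norm_num)
    have h2 : Nat.card (Matrix.SpecialLinearGroup (Fin 4) F) = 20160 := by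
      rw [Fin.prod_univ_four] at h1
      norm_num at h1
      exact h1
    have h4' : Nat.card (Matrix.ProjectiveSpecialLinearGroup (Fin (2 + 2)) F) ∣
        Nat.card (Matrix.SpecialLinearGroup (Fin (2 + 2)) F) := by
      rw [Subgroup.card_eq_card_quotient_mul_card_subgroup (center (Matrix.SpecialLinearGroup (Fin (2 + 2)) F))]
      exact Dvd.intro _ rfl
    rw [← Nat.card_congr e.toEquiv] at h4'
    have h5 := h27.trans h4'
    change 27 ∣ Nat.card (Matrix.SpecialLinearGroup (Fin 4) F) at h5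
    rw [h2] at h5
    norm_num at h5
  obtain ⟨π, hπ, hker⟩ := exists_proj (α := Fin 2 ⊕ Fin m) e (by simp)
  -- the element
  let x : SpecialLinearGroup (Fin 2 ⊕ Fin m) F := blk (om3 F) ((1 : F) • (1 : Matrix (Fin m) (Fin m) F))
    (by rw [om3_det, one_smul, Matrix.det_one, one_mul])
  have hx : (x : Matrix (Fin 2 ⊕ Fin m) (Fin 2 ⊕ Fin m) F) =
      fromBlocks (om3 F) 0 0 ((1 : F) • (1 : Matrix (Fin m) (Fin m) F)) := rfl
  have hA : (om3 F - (1 : F) • (1 : Matrix (Fin 2) (Fin 2) F)).det ≠ 0 := by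
    rw [om3_sub]
    exact h3
  have hx3 : x ^ 3 = 1 := by
    refine ext' ?_
    rw [pow_succ, pow_two, Matrix.SpecialLinearGroup.coe_mul, Matrix.SpecialLinearGroup.coe_mul, hx,
      fromBlocks_multiply, fromBlocks_multiply]
    simp only [one_smul, Matrix.mul_zero, Matrix.zero_mul, add_zero, zero_add, Matrix.mul_one, om3_cube]
    exact fromBlocks_one
  have : Nonempty (Fin m) := ⟨⟨0, by omega⟩⟩
  have hox : orderOf (π x) = 3 := orderOf_eq hker Nat.prime_three (by rw [← map_pow, hx3, map_one])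
    (not_mem_center hA hx)
  have hinj : Function.Injective (π.comp (low (F := F) (κ := Fin m) (Fin 2))) := by
    rw [injective_iff_map_eq_one]
    intro D hD
    apply low_center (ι := Fin 2)
    rw [← hker]
    exact hD
  have hq0 : IsQuasisimple (SpecialLinearGroup (Fin m) F) := by
    by_cases hm2 : m = 2
    · subst hm2
      exact SLQuasisimple.isQuasisimple_two (by rw [Nat.card_eq_fintype_card]; omega)
    · exact SLQuasisimple.isQuasisimple_of_three_le (by rw [Fintype.card_fin]; omega)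
  let e' : SpecialLinearGroup (Fin m) F ≃* ↥(π.comp (low (F := F) (κ := Fin m) (Fin 2))).range :=
    MonoidHom.ofInjective hinj
  have hcomp : IsComponentOf (π.comp (low (F := F) (κ := Fin m) (Fin 2))).range (centralizer ({π x} : Set G)) :=
    isComponentOf_of_norm hπ hker.le (fun D => low_comm hx D) (fun g hg D => low_norm hA hx g hg D)
      (Components.isQuasisimple_of_mulEquiv e' hq0)
  refine not_good_of_comp hox hcomp ?_ hG
  rw [← Nat.card_congr e'.toEquiv]
  -- an element of order three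
  obtain ⟨l, rfl⟩ : ∃ l, m = 2 + l := ⟨m - 2, by omega⟩
  let y : SpecialLinearGroup (Fin 2 ⊕ Fin l) F := blk (om3 F) (1 : Matrix (Fin l) (Fin l) F)
    (by rw [om3_det, Matrix.det_one, one_mul])
  have hy3 : y ^ 3 = 1 := by
    refine ext' ?_
    have hy : (y : Matrix (Fin 2 ⊕ Fin l) (Fin 2 ⊕ Fin l) F) = fromBlocks (om3 F) 0 0 1 := rfl
    rw [pow_succ, pow_two, Matrix.SpecialLinearGroup.coe_mul, Matrix.SpecialLinearGroup.coe_mul, hy,
      fromBlocks_multiply, fromBlocks_multiply]
    simp only [Matrix.mul_zero, Matrix.zero_mul, add_zero, zero_add, Matrix.mul_one, om3_cube]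
    exact fromBlocks_one
  have hy1 : y ≠ 1 := by
    intro h
    have h1 : fromBlocks (om3 F) 0 0 (1 : Matrix (Fin l) (Fin l) F) = 1 := congrArg Subtype.val h
    have h2 := congrFun (congrFun h1 (Sum.inl 0)) (Sum.inl 0)
    simp [om3] at h2
  have hoy : orderOf y = 3 := orderOf_eq_prime hy3 hy1
  have e2 : SpecialLinearGroup (Fin 2 ⊕ Fin l) F ≃* SpecialLinearGroup (Fin (2 + l)) F :=
    slReindex (finSumFinEquiv)
  rw [← Nat.card_congr e2.toEquiv, ← hoy]
  exact orderOf_dvd_natCard y

end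

end Cfsg.Agent.H320.Kill
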