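import Cfsg.Agent.S1059

import Cfsg.Agent.H320.Kill.Pair

/-!
# `G_2(q)`, `q > 2` even (helper320)
-/

set_option autoImplicit false

namespace Cfsg.Agent.H320.Kill

open Subgroup Cfsg Cfsg.Lie Matrix
open Cfsg.Agent.ChevalleyStructure Cfsg.Agent.ChevalleyStructure.Elts

universe u

theorem inList_G2 : InList chevG2 := by
  unfold InList
  simp

theorem two_eq_zero_of_card {F : Type*} [Field F] [Fintype F] {m : ℕ} (hF : Fintype.card F = 2 ^ m) : (2 : F) = 0 := by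
  have h := Nat.cast_card_eq_zero F
  rw [hF, Nat.cast_pow] at h
  have hm : m ≠ 0 := by
    rintro rfl
    simp at h
  simpa using (pow_eq_zero_iff hm).mp h

theorem soG2 : Cfsg.Agent.ETable.Exc.SO chevG2 0 4 := by decide +kernel

theorem dvd_of_coprime {a q : ℕ} {k : ℕ} (hq : q = 2 ^ k) {i : ℕ} {b : ℕ} (h : 3 ^ i ∣ q ^ a * b) : 3 ^ i ∣ b := by
  refine Nat.Coprime.dvd_of_dvd_mul_left ?_ h
  rw [hq]
  exact Nat.Coprime.pow_left _ (Nat.Coprime.pow_right _ (Nat.Coprime.pow_right _ (by norm_num)))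

open Cfsg.Agent.ChevalleyStructure.SL2Hom (up lo) in
theorem el3_eq {F : Type*} [Field F] (h2 : (2 : F) = 0) : el3 F = up 1 * lo 1 := by
  apply Subtype.ext
  show (!![0, -1; 1, -1] : Matrix (Fin 2) (Fin 2) F) = !![1, 1; 0, 1] * !![1, 0; 1, 1]
  have h1 : (-1 : F) = 1 := by linear_combination -h2
  have h3 : (1 : F) + 1 = 0 := by linear_combination h2
  rw [Matrix.mul_fin_two, h1]
  simp [h3]

/-- **`G_2(q)`, `q > 2` even.** -/
theorem g2 {F : Type} [Field F] [Fintype F] {m : ℕ} (hF : Fintype.card F = 2 ^ m) (hm : 2 ≤ m)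
    {G : Type u} [Group G] (e : G ≃* chevG2.group F) : ¬ Good G := by
  intro hG0
  have hG := hG0.congr e
  have hfin := hG.fin
  have h2 := two_eq_zero_of_card hF
  have hc : Nat.card F = 2 ^ m := by rw [Nat.card_eq_fintype_card, hF]
  let ψ := Cfsg.Agent.GpExc.Rank.psi (K := F) inList_G2 (r := 0) (by decide) (RingHom.id F)
    (H := chevG2.group F) (fun t => xG_mem_group inList_G2 _ _) (fun t => xG_mem_group inList_G2 _ _)
  let χ := Cfsg.Agent.GpExc.Rank.psi (K := F) inList_G2 (r := 4) (by decide) (RingHom.id F)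
    (H := chevG2.group F) (fun t => xG_mem_group inList_G2 _ _) (fun t => xG_mem_group inList_G2 _ _)
  have hψ : Function.Injective ψ := Cfsg.Agent.GpExc.Rank.psi_injective _ _ _ _ _ h2
  have hχ : Function.Injective χ := Cfsg.Agent.GpExc.Rank.psi_injective _ _ _ _ _ h2
  have hcomm : ∀ g g', Commute (ψ g) (χ g') := fun g g' =>
    Cfsg.Agent.GpExc.Rank.psi_comm _ _ _ _ _ _ _ _ soG2 g g'
  refine not_good_of_sl hc hm h2 (x := χ (el3 F)) ?_ ψ hψ (fun l => (hcomm l _).eq) ?_ hG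
  · rw [orderOf_injective χ hχ, orderOf_el3]
  · intro i hi
    rw [Cfsg.Agent.CTwoTab.card_SL_two, Cfsg.Agent.S1059.result (F := F) hF, hF] at hi
    have hpos : 0 < (2 ^ m) ^ 2 - 1 := by
      have : 1 < (2 ^ m) ^ 2 := Nat.one_lt_pow (by norm_num) (Nat.one_lt_pow (by omega) (by norm_num))
      omega
    have h3 : 3 ^ i * (2 ^ m * ((2 ^ m) ^ 2 - 1)) = (3 ^ i) * (2 ^ m) * ((2 ^ m) ^ 2 - 1) := by ring
    have h4 : (2 ^ m) ^ 6 * ((2 ^ m) ^ 2 - 1) * ((2 ^ m) ^ 6 - 1) =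
        ((2 ^ m) ^ 6 * ((2 ^ m) ^ 6 - 1)) * ((2 ^ m) ^ 2 - 1) := by ring
    rw [h3, h4] at hi
    have h5 := Nat.dvd_of_mul_dvd_mul_right hpos hi
    have h6 := dvd_of_coprime rfl ((Dvd.intro _ rfl).trans h5)
    have h7 : (2 ^ m) ^ 6 = 4 ^ (3 * m) := by
      rw [show (4 : ℕ) = 2 ^ 2 by norm_num, ← pow_mul, ← pow_mul]
      congr 1
      ring
    rw [h7] at h6
    have h8 := three_pow_le (by omega) h6
    by_contra hcon
    exact not_le_of_pow (i := i) hm (by omega) (by omega)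

end Cfsg.Agent.H320.Kill
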