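import Cfsg.Agent.KFacts.TwF4.Full
import Cfsg.Agent.GpExc.TwNode
import Cfsg.Agent.S1068
import Cfsg.Agent.H320.Kill.GTwo

/-!
# `²F_4(q)`, `q > 2` (helper320)
-/

set_option autoImplicit false

namespace Cfsg.Agent.H320.Kill

open Subgroup Cfsg Cfsg.Lie Matrix
open Cfsg.Agent.ChevalleyStructure Cfsg.Agent.ChevalleyStructure.SL2Rep Cfsg.Agent.ChevalleyStructure.SL2Hom
open Cfsg.Agent.ChevalleyStructure.TwF4.TwistedFix (Rln exists_rln)
open Cfsg.Agent.KFacts.TwF4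

universe u

theorem inList_F4 : Elts.InList chevF4 := by
  unfold Elts.InList
  simp

theorem soF4 : Cfsg.Agent.ETable.Exc.SO chevF4 33 24 := by decide +kernel

section

variable {K : Type} [Field K]

/-- the diagonal homomorphism into the linear group -/
noncomputable def prF (φ : K →+* K) : Matrix.SpecialLinearGroup (Fin 2) K →* GL chevF4.Idx K :=
  (MonoidHom.noncommCoprod (phi (SL2All.good_of_mem chevF4 inList_F4 33 (by decide)) K)
    ((phi (SL2All.good_of_mem chevF4 inList_F4 24 (by decide)) K).comp (Matrix.SpecialLinearGroup.map φ))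
    fun g g' => Cfsg.Agent.GpExc.TwNode.phi_comm inList_F4 (by decide) (by decide) soF4 g _).comp
      ((MonoidHom.id _).prod (MonoidHom.id _))

theorem prF_apply (φ : K →+* K) (g : Matrix.SpecialLinearGroup (Fin 2) K) : prF φ g =
      phi (SL2All.good_of_mem chevF4 inList_F4 33 (by decide)) K g *
      phi (SL2All.good_of_mem chevF4 inList_F4 24 (by decide)) K (Matrix.SpecialLinearGroup.map φ g) := rfl

variable [CharP K 2]

theorem prF_up (φ : K →+* K) (t : K) : prF φ (up t) = Inst.go φ 0 t := by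
  rw [prF_apply, Cfsg.Agent.GpExc.Rank.map_up, Cfsg.Agent.ETable.Exc.phi_up inList_F4 (by decide),
    Cfsg.Agent.ETable.Exc.phi_up inList_F4 (by decide)]
  exact Units.ext rfl

theorem prF_lo (φ : K →+* K) (t : K) : prF φ (lo t) = Inst.go φ 4 t := by
  rw [prF_apply, Cfsg.Agent.GpExc.Rank.map_lo, Cfsg.Agent.ETable.Exc.phi_lo inList_F4 (by decide),
    Cfsg.Agent.ETable.Exc.phi_lo inList_F4 (by decide)]
  exact Units.ext rfl

theorem prF_mem [Finite K] {φ : K →+* K} {e : ℕ} (hφ : Rln φ e) (g : Matrix.SpecialLinearGroup (Fin 2) K) :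
    prF φ g ∈ twistedF4 K e := by
  have h3 : g ∈ (twistedF4 K e).comap (prF φ) := by
    refine (Subgroup.closure_le _).2 ?_ (mem_closure_SL2 g)
    rintro x (⟨t, rfl⟩ | ⟨t, rfl⟩)
    · show prF φ (up t) ∈ twistedF4 K e
      rw [prF_up]
      exact Inst.go_mem hφ 0 t
    · show prF φ (lo t) ∈ twistedF4 K e
      rw [prF_lo]
      exact Inst.go_mem hφ 4 t
  exact h3

/-- the homomorphism `SL_2(q) → ²F_4(q)` -/
noncomputable def thF [Finite K] {φ : K →+* K} {e : ℕ} (hφ : Rln φ e) :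
    Matrix.SpecialLinearGroup (Fin 2) K →* ↥(twistedF4 K e) :=
  (prF φ).codRestrict (twistedF4 K e) (prF_mem hφ)

theorem thF_up [Finite K] {φ : K →+* K} {e : ℕ} (hφ : Rln φ e) (t : K) : thF hφ (up t) = (Inst.sys hφ).o 0 t :=
  Subtype.ext (prF_up φ t)

theorem thF_lo [Finite K] {φ : K →+* K} {e : ℕ} (hφ : Rln φ e) (t : K) : thF hφ (lo t) = (Inst.sys hφ).o 4 t :=
  Subtype.ext (prF_lo φ t)

end

theorem arithF {n i : ℕ} (hn : 3 ≤ n) (ho : Odd n) (hi : 3 ^ i * (2 ^ n * ((2 ^ n) ^ 2 - 1)) ∣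
    (2 ^ n) ^ 12 * (2 ^ n - 1) * ((2 ^ n) ^ 3 + 1) * ((2 ^ n) ^ 4 - 1) * ((2 ^ n) ^ 6 + 1)) (h : n + 1 ≤ i) : False := by
  obtain ⟨q, hq⟩ : ∃ q, q = 2 ^ n := ⟨_, rfl⟩
  rw [← hq] at hi
  have hq3 : q % 3 = 2 := by
    obtain ⟨j, rfl⟩ := ho
    rw [hq, pow_succ, pow_mul, Nat.mul_mod, Nat.pow_mod]
    norm_num
  have hq1 : 1 < q := by rw [hq]; exact Nat.one_lt_pow (by omega) (by norm_num)
  obtain ⟨a, rfl⟩ : ∃ a, q = a + 1 := ⟨q - 1, by omega⟩
  have e1 : (a + 1) ^ 2 - 1 = a * (a + 2) := by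
    have : (a + 1) ^ 2 = a * (a + 2) + 1 := by ring
    omega
  have e2 : (a + 1) ^ 4 - 1 = (a * (a + 2)) * ((a + 1) ^ 2 + 1) := by
    have : (a + 1) ^ 4 = (a * (a + 2)) * ((a + 1) ^ 2 + 1) + 1 := by ring
    omega
  have e3 : (a + 1) - 1 = a := by omega
  rw [e1, e2, e3] at hi
  have hpos : 0 < (a + 1) * (a * (a + 2)) := by
    have : 0 < a := by omega
    positivity
  have e4 : (a + 1) ^ 12 * a * ((a + 1) ^ 3 + 1) * (a * (a + 2) * ((a + 1) ^ 2 + 1)) * ((a + 1) ^ 6 + 1) =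
      ((a + 1) ^ 11 * (a * ((a + 1) ^ 3 + 1) * ((a + 1) ^ 2 + 1) * ((a + 1) ^ 6 + 1))) * ((a + 1) * (a * (a + 2))) := by
    ring
  rw [e4] at hi
  have h5 := dvd_of_coprime hq (Nat.dvd_of_mul_dvd_mul_right hpos hi)
  have h6 : 3 ^ i ∣ ((a + 1) ^ 3 + 1) := by
    have h7 : Nat.Coprime (3 ^ i) (a * ((a + 1) ^ 2 + 1) * ((a + 1) ^ 6 + 1)) := by
      apply Nat.Coprime.pow_left
      rw [Nat.Prime.coprime_iff_not_dvd Nat.prime_three]
      intro h9
      rw [Nat.prime_three.dvd_mul, Nat.prime_three.dvd_mul] at h9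
      rcases h9 with (h9 | h9) | h9
      · omega
      · have h10 : (a + 1) ^ 2 % 3 = 1 := by rw [Nat.pow_mod, hq3]
        omega
      · have h10 : (a + 1) ^ 6 % 3 = 1 := by rw [Nat.pow_mod, hq3]
        omega
    apply h7.dvd_of_dvd_mul_right
    rw [show ((a + 1) ^ 3 + 1) * (a * ((a + 1) ^ 2 + 1) * ((a + 1) ^ 6 + 1)) =
      a * ((a + 1) ^ 3 + 1) * ((a + 1) ^ 2 + 1) * ((a + 1) ^ 6 + 1) by ring]
    exact h5
  have h10 : 3 ^ i ∣ 4 ^ (3 * n) - 1 := by
    have h11 : (4 : ℕ) ^ (3 * n) = (a + 1) ^ 6 := by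
      rw [hq, show (4 : ℕ) = 2 ^ 2 by norm_num, ← pow_mul, ← pow_mul]
      congr 1
      ring
    have h12 : (a + 1) ^ 6 - 1 = ((a + 1) ^ 3 + 1) * ((a + 1) ^ 3 - 1) := by
      obtain ⟨b, hb⟩ : ∃ b, (a + 1) ^ 3 = b + 1 := ⟨(a + 1) ^ 3 - 1, by
        have : 0 < (a + 1) ^ 3 := by positivity
        omega⟩
      have h13 : (a + 1) ^ 6 = ((a + 1) ^ 3) ^ 2 := by rw [← pow_mul]
      rw [h13, hb]
      have h14 : (b + 1) ^ 2 = (b + 1 + 1) * b + 1 := by ring
      have h15 : b + 1 - 1 = b := by omega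
      rw [h15]
      omega
    rw [h11, h12]
    exact h6.mul_right _
  have h11 := three_pow_le (by omega) h10
  exact not_le_of_pow (m := n) (i := i) (by omega) (by omega) h

/-- **`²F_4(q)`, `q > 2`.** -/
theorem tw_f4 {K : Type} [Field K] [Fintype K] {m : ℕ} (hm : 1 ≤ m) (hK : Fintype.card K = 2 ^ (2 * m + 1))
    {G : Type u} [Group G] (e : G ≃* twistedF4 K (2 ^ m)) : ¬ Good G := by
  intro hG0
  have hG := hG0.congr e
  have hfin := hG.fin
  have h2 := two_eq_zero_of_card hK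
  have hch : CharP K 2 := CharTwo.of_one_ne_zero_of_two_eq_zero one_ne_zero h2
  obtain ⟨φ, hφ⟩ := exists_rln hK
  have hc : Nat.card K = 2 ^ (2 * m + 1) := by rw [Nat.card_eq_fintype_card, hK]
  let S := Inst.sys hφ
  let f := thF hφ
  have hsF : IsSimpleGroup (Matrix.SpecialLinearGroup (Fin 2) K) := simple_sl h2 (by
    rw [hc]
    calc 4 ≤ 2 ^ 3 := by norm_num
      _ ≤ 2 ^ (2 * m + 1) := Nat.pow_le_pow_right (by norm_num) (by omega))
  have hfi : Function.Injective f := by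
    rw [← MonoidHom.ker_eq_bot_iff]
    rcases hsF.eq_bot_or_eq_top_of_normal f.ker inferInstance with h | h
    · exact h
    · exfalso
      have h4 : f (up 1) = f (up 0) := (MonoidHom.mem_ker.mp (h.ge (mem_top (up 1)))).trans
        (MonoidHom.mem_ker.mp (h.ge (mem_top (up 0)))).symm
      rw [thF_up, thF_up] at h4
      exact one_ne_zero (S.injO 0 h4)
  let c : ↥(twistedF4 K (2 ^ m)) := S.rot * S.rot
  have hcj : ∀ a t, c * S.o a t * c⁻¹ = S.o (a + 2) t := by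
    intro a t
    show S.rot * S.rot * S.o a t * (S.rot * S.rot)⁻¹ = _
    rw [show S.rot * S.rot * S.o a t * (S.rot * S.rot)⁻¹ = S.rot * (S.rot * S.o a t * S.rot⁻¹) * S.rot⁻¹ by group,
      S.rot_o, S.rot_o, add_assoc]
    rfl
  have hx : orderOf (c * f (el3 K) * c⁻¹) = 3 := by
    have h1 : orderOf (f (el3 K)) = 3 := by rw [orderOf_injective f hfi, orderOf_el3]
    rw [← h1]
    exact MulEquiv.orderOf_eq (MulAut.conj c) _
  have hxe : c * f (el3 K) * c⁻¹ = S.o 2 1 * S.o 6 1 := by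
    rw [el3_eq h2, map_mul, thF_up, thF_lo,
      show c * ((Inst.sys hφ).o 0 1 * (Inst.sys hφ).o 4 1) * c⁻¹ =
        (c * (Inst.sys hφ).o 0 1 * c⁻¹) * (c * (Inst.sys hφ).o 4 1 * c⁻¹) by group, hcj, hcj]
    rfl
  have hcomm : ∀ l, f l ∈ centralizer {c * f (el3 K) * c⁻¹} := by
    intro l
    have h3 : l ∈ (centralizer {c * f (el3 K) * c⁻¹}).comap f := by
      refine (Subgroup.closure_le _).2 ?_ (mem_closure_SL2 l)
      rintro x (⟨t, rfl⟩ | ⟨t, rfl⟩)
      · show f (up t) ∈ centralizer {c * f (el3 K) * c⁻¹}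
        rw [mem_centralizer_singleton_iff, thF_up, hxe]
        have h4 : Commute (S.o 0 t) (S.o 2 1) := S.o_o2 0 t 1
        have h5 : Commute (S.o 0 t) (S.o 6 1) := (S.o_o2 6 1 t).symm
        exact (h4.mul_right h5).eq
      · show f (lo t) ∈ centralizer {c * f (el3 K) * c⁻¹}
        rw [mem_centralizer_singleton_iff, thF_lo, hxe]
        have h4 : Commute (S.o 4 t) (S.o 2 1) := (S.o_o2 2 1 t).symm
        have h5 : Commute (S.o 4 t) (S.o 6 1) := S.o_o2 4 t 1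
        exact (h4.mul_right h5).eq
    exact h3
  refine not_good_of_sl hc (by omega) h2 hx f hfi (fun l => mem_centralizer_singleton_iff.mp (hcomm l)) ?_ hG
  intro i hi
  rw [Cfsg.Agent.CTwoTab.card_SL_two, Cfsg.Agent.S1068.result (K := K) hK, hK] at hi
  by_contra hcon
  exact arithF (by omega) ⟨m, rfl⟩ hi (by omega)

end Cfsg.Agent.H320.Kill
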